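/-
Strong embedding and the `Z*`-theorem modulo a small normal subgroup.
-/
import Cfsg.Agent.HJ.StepE

set_option autoImplicit false

namespace Cfsg.Agent.HL

open HJ Subgroup PLoc

variable {G : Type*} [Group G] [Finite G]

theorem se_gen {X : Subgroup G} {z : G} (hz : z ∈ X) (z2 : z * z = 1) (z1 : z ≠ 1)
    (U : ∀ g, ∀ t ∈ X, t * t = 1 → t ≠ 1 → g * t * g⁻¹ ∈ X → g ∈ X) {y : G} (hyX : y ∉ X) :
    ∃ D ≤ X, (∀ t ∈ D, t * t = 1 → t = 1) ∧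
      ∀ t ∈ X, t * t = 1 → t ≠ 1 → ∃ d ∈ D, d * z * d⁻¹ = t := by
  have K : ∀ t ∈ X, t * t = 1 → t ≠ 1 →
      ∃ u, u * u = 1 ∧ u * z * u⁻¹ = y * t * y⁻¹ ∧ y⁻¹ * u ∈ X := by
    intro t ht t2 t1
    rcases dih (mem_top z) (mem_top (y * t * y⁻¹)) z2 (by rw [conj_mul, t2]; simp) with
      ⟨u, -, h2, h3⟩ | ⟨w, -, h2, h3, h4, h5, -⟩
    · refine ⟨u, h2, h3, U _ z hz z2 z1 ?_⟩
      rwa [cj_mul', h3, ← cj_mul', inv_mul_cancel, one_mul, inv_one, mul_one]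
    · have h6 := U w z hz z2 z1 (by rwa [cj_of_comm h4])
      exact absurd (U y t ht t2 t1 (U _ w h6 h3 h2 (by rwa [← h5, mul_inv_cancel_right]))) hyX
  refine ⟨X ⊓ X.comap (MulAut.conj y).toMonoidHom, inf_le_left, fun t ht t2 => ?_, ?_⟩
  · by_contra t1
    exact hyX (U y t ht.1 t2 t1 ht.2)
  · intro t' ht' t2' t1'
    obtain ⟨u, h1, h2, h3⟩ := K z hz z2 z1
    obtain ⟨u', h1', h2', h3'⟩ := K t' ht' t2' t1'
    refine ⟨y⁻¹ * u' * u * y, ⟨?_, ?_⟩, ?_⟩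
    · have := X.mul_mem h3' (X.inv_mem h3)
      rwa [mul_inv_rev, inv_eq_of_sq h1, inv_inv, ← mul_assoc] at this
    · have := X.mul_mem (X.inv_mem h3') h3
      rw [mul_inv_rev, inv_eq_of_sq h1'] at this
      simpa [mul_assoc] using this
    · have e : u * (y * z * y⁻¹) * u⁻¹ = z := by
        rw [← h2, ← cj_mul', h1, one_mul, inv_one, mul_one]
      calc _ = y⁻¹ * (u' * (u * (y * z * y⁻¹) * u⁻¹) * u'⁻¹) * y := by group
        _ = _ := by rw [e, h2']; group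

theorem se_mod {X Y V : Subgroup G} (hV : V ≤ X) (hXY : X ≤ Y)
    (nV : ∀ y ∈ Y, ∀ v ∈ V, y * v * y⁻¹ ∈ V) {z : G} (hz : z ∈ X) (z2 : z * z ∈ V) (z1 : z ∉ V)
    (U : ∀ g ∈ Y, ∀ t ∈ X, t * t ∈ V → t ∉ V → g * t * g⁻¹ ∈ X → g ∈ X) {y : G} (hy : y ∈ Y)
    (hyX : y ∉ X) : ∃ D ≤ X, (∀ t ∈ D, t * t ∈ V → t ∈ V) ∧
      ∀ t ∈ X, t * t ∈ V → t ∉ V → ∃ d ∈ D, ∃ v ∈ V, d * z * d⁻¹ = t * v := by
  have : (V.subgroupOf Y).Normal := ⟨fun v hv y => nV y y.2 v hv⟩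
  let π := QuotientGroup.mk' (V.subgroupOf Y)
  have k1 : ∀ x : Y, π x = 1 ↔ (x : G) ∈ V := fun x => QuotientGroup.eq_one_iff x
  have k2 : ∀ x : Y, π x ∈ (X.subgroupOf Y).map π ↔ (x : G) ∈ X := fun x => ⟨fun ⟨w, h1, h2⟩ => by
    have := mul_mem (show (w : G) ∈ X from h1) (hV ((k1 (w⁻¹ * x)).mp (by rw [map_mul, map_inv, h2, inv_mul_cancel])))
    simpa using this, fun h => ⟨x, h, rfl⟩⟩
  obtain ⟨D, h1, h2, h3⟩ := se_gen (X := (X.subgroupOf Y).map π) (z := π ⟨z, hXY hz⟩)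
    ((k2 _).mpr hz) (by rw [← map_mul]; exact (k1 _).mpr z2) (mt (k1 _).mp z1) (fun g t => by
      obtain ⟨g, rfl⟩ := QuotientGroup.mk'_surjective _ g
      obtain ⟨t, rfl⟩ := QuotientGroup.mk'_surjective _ t
      rw [← map_inv, ← map_mul, ← map_mul, ← map_mul, Ne, k1, k1, k2, k2, k2]
      exact U g g.2 t) (mt (k2 ⟨y, hy⟩).mp hyX)
  refine ⟨(D.comap π).map Y.subtype, ?_, ?_, fun t ht t2 t1 => ?_⟩
  · rintro _ ⟨d, hd, rfl⟩
    exact (k2 d).mp (h1 hd)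
  · rintro _ ⟨d, hd, rfl⟩ d2
    exact (k1 d).mp (h2 _ hd (by rw [← map_mul]; exact (k1 _).mpr d2))
  · obtain ⟨d, hd, e⟩ := h3 (π ⟨t, hXY ht⟩) ((k2 _).mpr ht) (by rw [← map_mul]; exact (k1 _).mpr t2)
      (mt (k1 _).mp t1)
    obtain ⟨d, rfl⟩ := QuotientGroup.mk'_surjective _ d
    refine ⟨d, ⟨d, hd, rfl⟩, t⁻¹ * (d * z * d⁻¹), (k1 ((⟨t, hXY ht⟩ : Y)⁻¹ * (d * ⟨z, hXY hz⟩ * d⁻¹))).mp
      (by rw [map_mul, map_mul, map_mul, map_inv, map_inv, e, inv_mul_cancel]), by simp⟩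

theorem zstar_mod {C S : Subgroup G} {t u p q : G} (ht : t ∈ C) (tc : ∀ x ∈ C, x * t = t * x)
    (t2 : t * t = 1) (u2 : u * u = 1) (u1 : u ≠ 1) (ut : u ≠ t) (hS : IsSylowOf 2 S C) (uS : u ∈ S)
    (tS : t ∈ S) (iso : ∀ x ∈ C, x * u * x⁻¹ ∈ S → x * u * x⁻¹ = u ∨ x * u * x⁻¹ = u * t)
    (hp : p ∈ C) (hq : q ∈ C) (p2 : p * p = 1) (q2 : q * q = 1)
    (hN : ∀ N ≤ C, (∀ g ∈ C, ∀ x ∈ N, g * x * g⁻¹ ∈ N) → (∀ x ∈ N, x * x = 1 → x = 1 ∨ x = t) →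
      ∀ w ∈ [p, q, p * q], ∀ x ∈ N, x * w = w * x → ∃ k, x ^ 2 ^ k = 1) :
    ∀ x ∈ C, x * u * x⁻¹ = u ∨ x * u * x⁻¹ = u * t := by
  have zt : ∀ v ∈ zpowers t, v = 1 ∨ v = t := fun v hv => by
    simpa using mem_list_of_closed (gs := [t]) (L := [1, t]) (by simp)
      (by simp [t2, inv_eq_of_sq t2]) v (zpowers_le.mpr (mem_clo (by simp)) hv)
  have : ((zpowers t).subgroupOf C).Normal := ⟨fun v hv y => by
    rcases zt _ hv with e | e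
    · rw [show v = 1 from Subtype.ext e]; simp
    · show (y : G) * v * (y : G)⁻¹ ∈ zpowers t
      rw [show (v : G) = t from e, cj_of_comm (tc y y.2)]; exact mem_zpowers t⟩
  let π := QuotientGroup.mk' ((zpowers t).subgroupOf C)
  have k1 : ∀ x : C, π x = 1 ↔ (x : G) = 1 ∨ (x : G) = t := fun x =>
    (QuotientGroup.eq_one_iff x).trans ⟨zt _, fun e => by
      show (x : G) ∈ zpowers t
      rcases e with e | e <;> simp [e]⟩
  have k2 : ∀ x y : C, π x = π y → (x : G) = y ∨ (x : G) = y * t := fun x y e =>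
    ((k1 (y⁻¹ * x)).mp (by rw [map_mul, map_inv, e, inv_mul_cancel])).imp
      (fun e => (inv_mul_eq_one.mp e).symm) fun e => by rw [← e]; simp
  have su : Function.Surjective π := QuotientGroup.mk'_surjective _
  have hS' := (hS.subgroupOf le_rfl).map π
  rw [subgroupOf_self, map_top_of_surjective π su] at hS'
  obtain ⟨P, hP⟩ := hS'.exists_sylow_top
  have k3 : ∀ x : C, π x ∈ P ↔ (x : G) ∈ S := fun x => by
    rw [← SetLike.mem_coe, ← Sylow.coe_coe, hP]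
    refine ⟨fun ⟨w, h1, h2⟩ => ?_, fun h => ⟨x, h, rfl⟩⟩
    rcases k2 _ _ h2.symm with e | e <;> rw [e]
    exacts [h1, mul_mem h1 tS]
  have u0 : π ⟨u, hS.le uS⟩ ≠ 1 := fun e => ((k1 _).mp e).elim u1 ut
  have sq : ∀ {x} (hx : x ∈ C), x * x = 1 → π ⟨x, hx⟩ * π ⟨x, hx⟩ = 1 := fun hx e => by
    rw [← map_mul]; exact (k1 _).mpr (Or.inl e)
  obtain ⟨N, h1, h2, h3⟩ := S0215.result P (π ⟨u, hS.le uS⟩)
    (orderOf_eq_prime (by rw [pow_two, sq _ u2]) u0) ((k3 _).mpr uS) fun g hg => by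
      obtain ⟨g, rfl⟩ := su g
      rw [← map_inv, ← map_mul, ← map_mul] at hg ⊢
      rcases iso g g.2 ((k3 _).mp hg) with e | e
      · exact congrArg π (Subtype.ext e)
      · rw [show g * ⟨u, hS.le uS⟩ * g⁻¹ = ⟨u, hS.le uS⟩ * ⟨t, ht⟩ from Subtype.ext e, map_mul,
          (k1 ⟨t, ht⟩).mpr (Or.inr rfl), mul_one]
  have od : ∀ x ∈ N, ∀ k, x ^ 2 ^ k = 1 → x = 1 := fun x hx k e =>
    eq_one_of_isPGroup_of_coprime (isPGroup_zpowers e) (mem_zpowers x)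
      ((Nat.coprime_two_right.mpr h2).coprime_dvd_left (orderOf_dvd_card_of_mem hx))
  have key := hN ((N.comap π).map C.subtype) (map_subtype_le _)
    (by
      rintro g hg _ ⟨x, hx, rfl⟩
      exact ⟨⟨g, hg⟩ * x * ⟨g, hg⟩⁻¹, (h1.comap π).conj_mem x hx _, rfl⟩)
    (by
      rintro _ ⟨x, hx, rfl⟩ e
      exact (k1 x).mp (od _ hx 1 (by rw [pow_one, pow_two]; exact sq x.2 e)))
  have k4 : ∀ w : C, (w : G) ∈ [p, q, p * q] → ∀ x ∈ N, x * π w = π w * x → x = 1 := fun w hw x hx e => by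
    obtain ⟨x, rfl⟩ := su x
    have e1 := k2 (x * w * x⁻¹) w (by rw [map_mul, map_mul, map_inv, e, mul_inv_cancel_right])
    have e2 : (x : G) * x * w * ((x : G) * x)⁻¹ = w := by
      rw [cj_mul']
      rcases e1 with e1 | e1 <;> simp only [coe_mul, coe_inv] at e1
      · rw [e1, e1]
      · rw [e1, ← conj_mul, e1, cj_of_comm (tc x x.2), mul_assoc, t2, mul_one]
    obtain ⟨k, e3⟩ := key w hw (x * x) ⟨x * x, mul_mem hx hx, rfl⟩ (comm_of_cj e2)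
    refine od _ hx (k + 1) ?_
    rw [pow_succ', pow_mul, pow_two, ← map_mul, ← map_pow]
    exact (k1 _).mpr (Or.inl e3)
  have k5 := eq_one_of_fpf (N := N) (u := π ⟨p, hp⟩) (v := π ⟨q, hq⟩) (fun x hx => h1.conj_mem x hx _)
    (fun x hx => h1.conj_mem x hx _) (sq _ p2) (sq _ q2) (k4 _ (by simp)) (k4 _ (by simp))
    (by rw [← map_mul]; exact k4 _ (by simp))
  intro x hx
  refine k2 (⟨x, hx⟩ * ⟨u, hS.le uS⟩ * ⟨x, hx⟩⁻¹) ⟨u, hS.le uS⟩ ?_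
  have := k5 _ (h3 (π ⟨x, hx⟩))
  rw [mul_inv_eq_one, mul_inv_eq_iff_eq_mul] at this
  rw [map_mul, map_mul, map_inv, ← this, mul_inv_cancel_right]

end Cfsg.Agent.HL
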