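/-
Groups with the involution centraliser of `L₅(2)`: Sylow subgroups and the two groups of order 64.
-/
import Cfsg.Agent.HL.Facts

set_option autoImplicit false
set_option maxRecDepth 100000
set_option synthInstance.maxSize 4000

namespace Cfsg.Agent.HL

open HJ Subgroup PLoc

variable {G : Type*} [Group G] {a b c z e f h i j k s r : G}

/-- the centraliser of `z` is generated by elements satisfying the relations -/
structure HT (a b c z e f h i j k s r : G) : Prop where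
  sat : Sat cH.RL [a, b, c, z, e, f, h, i, j, k, s, r]
  eq : ∀ x, x ∈ clo [a, b, c, z, e, f, h, i, j, k, s, r] ↔ x * z = z * x
  card : 21504 ≤ Nat.card (clo [a, b, c, z, e, f, h, i, j, k, s, r])

set_option hygiene false in
local notation "ΔH" => gr gH [a, b, c, z, e, f, h, i, j, k, s, r]
set_option hygiene false in
local notation "TT" => clo [a, b, c, z, e, f, h, i, j, k]
set_option hygiene false in
local notation "AA" => clo [b, c, z, e, f, h]
set_option hygiene false in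
local notation "BB" => clo [j, h, z, i, f, c]

theorem nrm_of {Γ' : Type*} [Group Γ'] {Δ : Subgroup (Γ' × G)} (hf : Fn Δ) {xs : List Γ'}
    {ys : List G} (hl : gr xs ys ≤ Δ) {n0 : Γ'} {n : G} (m : (n0, n) ∈ Δ)
    (hn : n0 ∈ normalizer (clo xs : Set Γ')) (e : xs.length = ys.length := by rfl) :
    (n0, n) ∈ normalizer (gr xs ys : Set (Γ' × G)) ∧ n ∈ normalizer (clo ys : Set G) := by
  have key : ∀ {n0 : Γ'} {n : G}, (n0, n) ∈ Δ → n0 ∈ normalizer (clo xs : Set Γ') → ∀ x0 x,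
      (x0, x) ∈ gr xs ys → (n0 * x0 * n0⁻¹, n * x * n⁻¹) ∈ gr xs ys := fun m hn x0 x hx =>
    (mem_of_gr hf hl (pm_mul (pm_mul m (hl hx)) (pm_inv m))
      (conj_mem_of_mem_normalizer hn (gr_mem hx e).1) e).2
  refine ⟨mem_normalizer_iff.mpr fun p => ⟨key m hn p.1 p.2, fun hp => ?_⟩,
    mem_normalizer_iff.mpr fun x => ⟨fun hx => ?_, fun hx => ?_⟩⟩
  · simpa [mul_assoc] using key (pm_inv m) (inv_mem hn) _ _ hp
  · obtain ⟨x0, -, m'⟩ := gr_left xs hx e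
    exact (gr_mem (key m hn _ _ m') e).2
  · obtain ⟨x0, -, m'⟩ := gr_left xs hx e
    simpa [mul_assoc] using (gr_mem (key (pm_inv m) (inv_mem hn) _ _ m') e).2

theorem nj {Γ' : Type*} [Group Γ'] {Δ : Subgroup (Γ' × G)} {n0 x0 : Γ'} {n x : G}
    (h1 : (n0, n) ∈ normalizer (Δ : Set (Γ' × G))) (h2 : (x0, x) ∈ Δ) :
    (n0 * x0 * n0⁻¹, n * x * n⁻¹) ∈ Δ := (mem_normalizer_iff.mp h1 _).mp h2

theorem fK : (∀ x ∈ clo gU, x.c ∈ kB → x = 1 ∨ x = z0 ∨ x = c0 ∨ x = c0 * z0) ∧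
    (∀ x ∈ clo gB, x.c ∈ kB) ∧ (∀ x ∈ [b0, c0, b0 * c0], x ≠ 1 ∧ x ≠ z0) ∧
    (∀ x ∈ [c0, c0 * z0], ∀ y ∈ [c0, c0 * z0], x * y = 1 ∨ x * y = z0) ∧ z0 ≠ 1 :=
  ⟨enumU.all (by decide +kernel), enumB.all (by decide +kernel), by decide +kernel⟩

variable (H : HT a b c z e f h i j k s r)
include H

theorem HT.fn : Fn ΔH := fn_of_le (leH (satH.zip H.sat)) chH_card
theorem HT.inj : Inj ΔH := inj_of_le (leH (satH.zip H.sat)) H.card

omit H in
theorem HT.m : (a0, a) ∈ ΔH ∧ (b0, b) ∈ ΔH ∧ (c0, c) ∈ ΔH ∧ (z0, z) ∈ ΔH ∧ (e0, e) ∈ ΔH ∧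
    (f0, f) ∈ ΔH ∧ (h0, h) ∈ ΔH ∧ (i0, i) ∈ ΔH ∧ (j0, j) ∈ ΔH ∧ (k0, k) ∈ ΔH ∧ (s0, s) ∈ ΔH ∧
    (r0, r) ∈ ΔH := by
  refine ⟨?_, ?_, ?_, ?_, ?_, ?_, ?_, ?_, ?_, ?_, ?_, ?_⟩ <;> exact mem_clo (by simp)

set_option hygiene false in
/-- the generators correspond -/
macro "gens" : tactic => `(tactic|
  obtain ⟨ma, mb, mc, mz, me, mf, mh, mi, mj, mk, ms, mr⟩ :=
    HT.m (a := a) (b := b) (c := c) (z := z) (e := e) (f := f) (h := h) (i := i) (j := j) (k := k)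
      (s := s) (r := r))

set_option hygiene false in
/-- an equation in the centraliser, by computation in the model -/
macro "hc" : tactic => `(tactic| exact H.fn.eq (by gm) (by gm) (by decide +kernel))

theorem HT.flip : HT k j h z i f c e b a r s := by
  gens
  have q : clo [k, j, h, z, i, f, c, e, b, a, r, s] = clo [a, b, c, z, e, f, h, i, j, k, s, r] :=
    le_antisymm (clo_sub (by simp)) (clo_sub (by simp))
  exact ⟨Sat.tr H.fn (xs := [k0, j0, h0, z0, i0, f0, c0, e0, b0, a0, r0, s0])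
    (ys := [k, j, h, z, i, f, c, e, b, a, r, s]) (S := List.range 12)
    ⟨mk, mj, mh, mz, mi, mf, mc, me, mb, ma, mr, ms, trivial⟩ (by decide +kernel) satF,
    q ▸ H.eq, q ▸ H.card⟩

theorem HT.lift {x : G} (hx : x * z = z * x) : ∃ x0 ∈ clo gH, (x0, x) ∈ ΔH :=
  gr_left gH ((H.eq x).mpr hx)

theorem HT.down {x0 : Γ} (hx : x0 ∈ clo gH) : ∃ x, x * z = z * x ∧ (x0, x) ∈ ΔH :=
  (gr_right _ hx).imp fun _ m => ⟨(H.eq _).mp m.1, m.2⟩

theorem HT.cz {x0 : Γ} {x : G} (m : (x0, x) ∈ ΔH) : x * z = z * x := (H.eq x).mp (gr_mem m).2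

omit H in
theorem grT : gr gT [a, b, c, z, e, f, h, i, j, k] ≤ ΔH := clo_sub (by simp)
omit H in
theorem grA : gr gA [b, c, z, e, f, h] ≤ ΔH := clo_sub (by simp)
omit H in
theorem grB : gr gB [j, h, z, i, f, c] ≤ ΔH := clo_sub (by simp)
omit H in
theorem grU : gr gU [a, b, c, z] ≤ ΔH := clo_sub (by simp)

omit H in
theorem liftT {x : G} (hx : x ∈ TT) : ∃ x0 ∈ clo gT, (x0, x) ∈ ΔH :=
  (gr_left gT hx).imp fun _ m => ⟨m.1, grT m.2⟩
omit H in
theorem liftA {x : G} (hx : x ∈ AA) : ∃ x0 ∈ clo gA, (x0, x) ∈ ΔH :=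
  (gr_left gA hx).imp fun _ m => ⟨m.1, grA m.2⟩
omit H in
theorem liftB {x : G} (hx : x ∈ BB) : ∃ x0 ∈ clo gB, (x0, x) ∈ ΔH :=
  (gr_left gB hx).imp fun _ m => ⟨m.1, grB m.2⟩

theorem HT.z12 : z * z = 1 ∧ z ≠ 1 := by
  gens
  exact ⟨by hc, fun e => fK.2.2.2.2 (H.inj.eq mz pm_one e)⟩

/-- conjugacy inside the centraliser -/
theorem HT.conj {x0 w0 : Γ} {x w : G} (m : (x0, x) ∈ ΔH) (m' : (w0, w) ∈ ΔH) {W : List (List ℕ)}
    {k : List ℕ} (e : cls gH w0 W = k) (hx : x0.c ∈ k) : ∃ n, n * z = z * n ∧ x = n * w * n⁻¹ := by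
  obtain ⟨n0, h1, h2⟩ := mem_cls e hx
  obtain ⟨n, h3, h4⟩ := H.down h1
  exact ⟨n, h3, H.fn.eq m (by gm) h2⟩

theorem HT.cardT : Nat.card TT = 1024 := by
  rw [card_gr (H.fn.mono grT) (H.inj.mono grT)]
  exact le_antisymm (leT satT).2 chT_card

theorem HT.cardA : Nat.card AA = 64 := by
  rw [card_gr (H.fn.mono grA) (H.inj.mono grA)]
  exact le_antisymm (leE6 satA).2 chA_card

theorem HT.twoT : IsPGroup 2 TT := IsPGroup.of_card (n := 10) H.cardT

theorem HT.zT {x : G} (hx : x ∈ TT) (h1 : ∀ y ∈ TT, x * y = y * x) : x = 1 ∨ x = z := by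
  gens
  obtain ⟨x0, m0, m⟩ := liftT (s := s) (r := r) hx
  have k : ∀ {y0 y}, (y0, y) ∈ ΔH → y ∈ [a, b, c, z, e, f, h, i, j, k] → x0 * y0 = y0 * x0 :=
    fun m1 m2 => H.inj.eq (by gm) (by gm) (h1 _ (mem_clo m2))
  exact (((fT x0 m0).2 (k mb (by simp)) (k me (by simp)) (k mi (by simp)) (k mj (by simp))).2
    (k ma (by simp)) (k mk (by simp))).imp (H.fn.eq m pm_one) (H.fn.eq m mz)

theorem HT.normA : clo [r, a, b, c, z, e, f, h, i, j, k] ≤ normalizer (AA : Set G) := fun x hx => by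
  obtain ⟨x0, m0, m⟩ := gr_left (r0 :: gT) hx
  exact (nrm_of H.fn grA (clo_sub (by simp) m) (nA m0)).2

theorem HT.eaA {x : G} (hx : x ∈ AA) : x * x = 1 ∧ ∀ y ∈ AA, x * y = y * x := by
  have k : ∀ x ∈ AA, x * x = 1 := fun x hx => by
    obtain ⟨x0, m0, m⟩ := liftA (a := a) (i := i) (j := j) (k := k) (s := s) (r := r) hx
    exact H.fn.eq (by gm) pm_one (enumA.all (P := fun x => x * x = 1) (by decide +kernel) x0 m0)
  refine ⟨k x hx, fun y hy => ?_⟩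
  rw [← inv_eq_of_sq (k _ (mul_mem hx hy)), mul_inv_rev, inv_eq_of_sq (k x hx), inv_eq_of_sq (k y hy)]

variable [Finite G]

theorem HT.sylT : IsSylowOf 2 TT ⊤ := by
  have l : TT ≤ clo [a, b, c, z, e, f, h, i, j, k, s, r] := clo_sub (by simp)
  have h1 : IsSylowOf 2 TT (clo [a, b, c, z, e, f, h, i, j, k, s, r]) := ⟨l, H.twoT, by
    have := card_mul_relIndex l
    rw [H.cardT, le_antisymm (leH H.sat).2 H.card] at this
    omega⟩
  refine isSylowOf_of_maximal H.twoT le_top fun Q hQ _ hl => ?_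
  by_contra ne
  obtain ⟨x, h2, h3, h4⟩ := exists_mem_normalizer_not_mem hQ (lt_of_le_of_ne hl (Ne.symm ne))
  have mz : z ∈ TT := mem_clo (by simp)
  have := (H.zT (conj_mem_of_mem_normalizer h3 mz) fun y hy => by
    have := cj_comm (g := x) ((H.eq _).mp (l (conj_mem_of_mem_normalizer' h3 hy)))
    rw [show x * (x⁻¹ * y * x) * x⁻¹ = y by group] at this
    exact this.symm).resolve_left (by simpa using H.z12.2)
  exact h4 (h1.le_of_le_normalizer (hQ.to_le (zpowers_le.mpr h2))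
    (zpowers_le.mpr ((H.eq x).mpr (comm_of_cj this))) (zpowers_le.mpr h3) (mem_zpowers x))

theorem HT.e64 {E : Subgroup G} (hE : E ≤ TT) (hc : Nat.card E = 64)
    (h2 : ∀ x ∈ E, x * x = 1 ∧ ∀ y ∈ E, x * y = y * x) : E = AA ∨ E = BB := by
  have : (E : Set G) ⊆ AA ∪ BB := fun x hx => by
    obtain ⟨x0, m0, m⟩ := liftT (s := s) (r := r) (hE hx)
    rcases ((fT x0 m0).1 (H.inj.eq (by gm) pm_one (h2 x hx).1)).2.2 with e | e | e
    · exact Or.inl (mem_of_gr H.fn grA m (of_kA e)).1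
    · exact Or.inr (mem_of_gr H.fn grB m (of_kB e)).1
    · choose! σ hσ using fun x0 => H.down (x0 := x0)
      obtain ⟨y, h3, h4⟩ := exists_not_mem_list (Q := E) (List.map σ _) (by rwa [List.length_map, hc])
      obtain ⟨y0, m1, m'⟩ := liftT (s := s) (r := r) (hE h3)
      exact (h4 (List.mem_map.mpr ⟨y0, List.mem_filter.mpr
        ⟨((fT y0 m1).1 (H.inj.eq (by gm) pm_one (h2 y h3).1)).1,
          decide_eq_true (H.inj.eq (by gm) (by gm) ((h2 y h3).2 x hx))⟩,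
        H.fn.eq (hσ y0 (T_le m1)).2 m' rfl⟩)).elim
  exact (SubgroupClass.subset_union.mp this).imp
    (fun l => eq_of_le_of_card_ge l (by rw [hc, H.cardA])) fun l =>
      eq_of_le_of_card_ge l (by rw [hc, H.flip.cardA])

theorem HT.notConj (n : G) : cj n BB ≠ AA := fun e1 => by
  gens
  have eT : clo [k, j, h, z, i, f, c, e, b, a] = TT := le_antisymm (clo_sub (by simp)) (clo_sub (by simp))
  have l1 : TT ≤ normalizer (AA : Set G) := (clo_sub (by simp)).trans H.normA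
  have l2 : cj n TT ≤ normalizer (AA : Set G) := by
    rw [← e1, ← cj_normalizer, ← eT]
    exact cj_mono n ((clo_sub (by simp)).trans H.flip.normA)
  obtain ⟨m, h1, h2⟩ := ((cj_top n ▸ H.sylT.cj n).of_le l2 le_top).exists_cj_eq
    (H.sylT.of_le l1 le_top)
  rw [← cj_mul, cj_eq_self_iff] at h2
  have h3 : cj (m * n) BB = AA := by rw [cj_mul, e1, cj_eq_self_iff.mpr h1]
  generalize m * n = x at h2 h3
  have hz := (H.zT (conj_mem_of_mem_normalizer h2 (mem_clo (by simp) : z ∈ _)) fun y hy => by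
    have := cj_comm (g := x) ((H.eq _).mp (clo_sub (by simp) (conj_mem_of_mem_normalizer' h2 hy)))
    rw [show x * (x⁻¹ * y * x) * x⁻¹ = y by group] at this
    exact this.symm).resolve_left (by simpa using H.z12.2)
  obtain ⟨x0, m0, m⟩ := H.lift (comm_of_cj hz)
  obtain ⟨f1, f2, f3, f4, -⟩ := fK
  have k3 : ∀ y0 ∈ [b0, c0, b0 * c0], x0⁻¹ * y0 * x0 ≠ 1 ∧ x0⁻¹ * y0 * x0 ≠ z0 := fun y0 hy =>
    ⟨fun e => (f3 y0 hy).1 (by simpa [mul_assoc, inv_mul_eq_one] using e), fun e => (f3 y0 hy).2 (by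
      rw [← cj_of_comm (zH x0 m0), ← e]; group)⟩
  have k1 : ∀ y0 y, (y0, y) ∈ ΔH → y ∈ [b, c] → y0 ∈ [b0, c0] →
      x0⁻¹ * y0 * x0 ∈ [c0, c0 * z0] := fun y0 y m1 m2 m3 => by
    obtain ⟨w0, m4, m5⟩ := liftB (a := a) (b := b) (e := e) (k := k) (s := s) (r := r)
      (mem_cj.mp (h3 ▸ mem_clo (by simp at m2 ⊢; tauto) : y ∈ cj x BB))
    have := f1 _ (conj_mem_of_mem_normalizer' (nU m0) (mem_clo (by simp at m3 ⊢; tauto) : y0 ∈ _))
      ((H.inj.eq m5 (by gm) rfl : w0 = x0⁻¹ * y0 * x0) ▸ f2 w0 m4)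
    have k2 := k3 y0 (by simp at m3 ⊢; tauto)
    simpa [k2.1, k2.2] using this
  have := f4 _ (k1 _ _ mb (by simp) (by simp)) _ (k1 _ _ mc (by simp) (by simp))
  rw [show x0⁻¹ * b0 * x0 * (x0⁻¹ * c0 * x0) = x0⁻¹ * (b0 * c0) * x0 by group] at this
  exact this.elim (k3 _ (by simp)).1 (k3 _ (by simp)).2

theorem HT.normOf {n : G} (hn : ∀ x ∈ AA, n⁻¹ * x * n ∈ TT) : n ∈ normalizer (AA : Set G) := by
  have := H.e64 (E := cj n⁻¹ AA) (cj_le_iff'.mpr (by simpa using hn)) (by rw [card_cj, H.cardA])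
    fun x hx => by
      have k := H.eaA (mem_cj.mp hx)
      rw [inv_inv] at k
      refine ⟨by simpa [conj_mul] using k.1, fun y hy => ?_⟩
      have := k.2 _ (by simpa using mem_cj.mp hy)
      rw [conj_mul, conj_mul] at this
      exact mul_left_cancel (mul_right_cancel this)
  rcases this with e | e
  · simpa using inv_mem (cj_eq_self_iff.mp e)
  · exact absurd (by rw [← e, cj_cj_inv]) (H.notConj n)

theorem HT.ext {y : G} (hy : IsConj z y) {R : Subgroup G} (hR : IsPGroup 2 R)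
    (h1 : ∀ x ∈ R, x * y = y * x) : ∃ n, n * z * n⁻¹ = y ∧ ∀ x ∈ R, n⁻¹ * x * n ∈ TT := by
  obtain ⟨g, rfl⟩ := isConj_iff.mp hy
  obtain ⟨m, h2, h3⟩ := (H.sylT.of_le (clo_sub (by simp)) le_top).exists_cj_le (isPGroup_cj g⁻¹ hR)
    (cj_le_iff'.mpr fun x hx => (H.eq _).mpr (by
      have := cj_comm (g := g⁻¹) (h1 x hx)
      rwa [show g⁻¹ * (g * z * g⁻¹) * g⁻¹⁻¹ = z by group] at this))
  refine ⟨g * m⁻¹, by rw [cj_mul', cj_of_comm (Commute.inv_left ((H.eq m).mp h2)).eq], fun x hx => ?_⟩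
  simpa [mul_assoc] using h3 (conj_mem_cj.mpr (conj_mem_cj.mpr hx))

theorem HT.extA {y : G} (hy : IsConj z y) (h1 : y ∈ AA) :
    ∃ n ∈ normalizer (AA : Set G), n * z * n⁻¹ = y := by
  obtain ⟨n, h2, h3⟩ := H.ext hy (H.twoT.to_le (clo_sub (by simp) : AA ≤ TT))
    fun x hx => (H.eaA hx).2 y h1
  exact ⟨n, H.normOf h3, h2⟩

theorem HT.extW {y : G} (hy : IsConj z y) (h1 : y ∈ AA) (h2 : y ∈ BB) :
    ∃ n ∈ normalizer (AA : Set G), n ∈ normalizer (BB : Set G) ∧ n * z * n⁻¹ = y := by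
  have eT : clo [k, j, h, z, i, f, c, e, b, a] = TT := le_antisymm (clo_sub (by simp)) (clo_sub (by simp))
  obtain ⟨n, h3, h4⟩ := H.ext hy (R := AA ⊔ BB) (H.twoT.to_le (sup_le (clo_sub (by simp))
    (clo_sub (by simp)))) fun x hx => mem_centralizer_singleton_iff.mp ((sup_le
      (fun x hx => mem_centralizer_singleton_iff.mpr ((H.eaA hx).2 y h1))
      fun x hx => mem_centralizer_singleton_iff.mpr ((H.flip.eaA hx).2 y h2) :
        AA ⊔ BB ≤ centralizer {y}) hx)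
  exact ⟨n, H.normOf fun x hx => h4 x (mem_sup_left hx),
    H.flip.normOf fun x hx => eT ▸ h4 x (mem_sup_right hx), h3⟩

end Cfsg.Agent.HL
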