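/-
Finite facts about the centraliser of a non-central involution.
-/
import Cfsg.Agent.HL.Facts

set_option autoImplicit false
set_option maxRecDepth 100000
set_option synthInstance.maxSize 4000

namespace Cfsg.Agent.HL

open HJ Subgroup

/-- the four-group -/
noncomputable abbrev LV : List Γ := [1, c0 * h0, z0 * f0 * h0, c0 * h0 * (z0 * f0 * h0)]

theorem fS : ∀ x ∈ clo gS, (x * x = 1 → x.c ∈ kA ∨ x.c ∈ kB ∨ (z0 * x).c ∈ kN ∧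
      (b0 * j0 * x = x * (b0 * j0) ∨ b0 * c0 * j0 * x = x * (b0 * c0 * j0))) ∧
    ((x * (z0 * f0 * h0) * x⁻¹ = z0 * f0 * h0 ∧ x * f0 = f0 * x) ∨
      x * (z0 * f0 * h0) * x⁻¹ = c0 * h0 * (z0 * f0 * h0)) := centS.2.all (by decide +kernel)

theorem fA2 : ∀ u ∈ clo gA,
    (u.c ∈ kR ++ kb ∨ (u * (c0 * h0)).c ∈ kR ++ kb ∨ u ∈ LV) ∧
    (u.c ∈ kN ++ kb ∨ (u * (c0 * h0)).c ∈ kN ++ kb ∨ u = 1 ∨ u * (c0 * h0) = 1 ∨ u.c ∈ kB) ∧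
    (u.c ∈ kB → (u.c ∈ kR ∨ (u * (c0 * h0)).c ∈ kR ∨ u ∈ LV) ∧ (u = 1 ∨ u.c ∈ kR ∨ u.c ∈ kN)) :=
  enumA.all (by decide +kernel)

theorem fV : ∀ v ∈ LV, ((b0 * v).c ∈ kb ∨ (b0 * v * (z0 * f0 * h0)).c ∈ kb) ∧
    (v = 1 ∨ (z0 * v * (c0 * h0)).c ∈ kR) ∧ v ≠ z0 ∧ v ≠ b0 ∧ v ≠ f0 := by decide +kernel

theorem fU2 : ∀ u ∈ clo gU, (∀ w ∈ [h0, c0 * h0], u * w * u⁻¹ * w⁻¹ = 1 ∨ u * w * u⁻¹ * w⁻¹ = z0) ∧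
    u * u = 1 ∧ (u = 1 ∨ u = z0 ∨ u.c ∈ kc) ∧
    (u * h0 = h0 * u → (h0 * u).c ∈ kh ∨ (h0 * u).c ∈ kt) := enumU.all (by decide +kernel)

theorem fT₁ : ∀ d₁ ∈ [1, i₁, j₁, i₁ * j₁].map (r₁ * i₁ * gt₁ * r₁ * i₁ * gt₁ * r₁ * gt₁ * r₁ * ·⁻¹),
    ∀ d₂ ∈ [1, i₁, j₁, i₁ * j₁].map (a₁ * r₁ * gt₁ * a₁ * r₁ * ·⁻¹),
      ∃ d ∈ [d₂, d₁ * d₂, d₁ * d₂⁻¹, d₁ * d₂ * d₁ * d₂⁻¹], d * d = 1 ∧ ∃ x ∈ gA₁, d * x * d⁻¹ ≠ x := by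
  decide +kernel

end Cfsg.Agent.HL
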