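/-
More finite facts about the centraliser of a transvection of `L₅(2)`.
-/
import Cfsg.Agent.HL.Facts

set_option autoImplicit false
set_option maxRecDepth 100000
set_option synthInstance.maxSize 4000

namespace Cfsg.Agent.HL

open HJ Subgroup

theorem fJ : ∀ x ∈ clo gJ, (x * x).c ∉ kN ∧ (x * x = 1 ∨ ∀ v ∈ [z0 * f0 * h0, c0 * h0 * (z0 * f0 * h0)],
      (x * x * (c0 * h0)).c ∈ kR ∨ (x * x * v).c ∈ kR) ∧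
    (x * x ∈ [1, c0 * h0, z0 * f0 * h0, c0 * h0 * (z0 * f0 * h0)] →
      x ∈ [1, c0 * h0, z0 * f0 * h0, c0 * h0 * (z0 * f0 * h0)] ∨
      ∃ v ∈ [1, c0 * h0, z0 * f0 * h0, c0 * h0 * (z0 * f0 * h0)], (x * v).c ∈ kR) ∧
    (x * x = 1 → x.c ∈ kA ∨ x.c ∈ kB) ∧ ∃ v ∈ [1, i0, j0, i0 * j0], (v * x).c ∈ kA :=
  centJ.2.all (by decide +kernel)

theorem fA : ∀ x ∈ clo gA, ((∀ y ∈ kB.map (PC.of : ℕ → Γ), x * y * (x * y) ≠ c0) ∨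
      ∀ y ∈ kB.map (PC.of : ℕ → Γ), x * y * (x * y) ∈ [1, c0, z0, c0 * z0]) ∧
    ((∀ y ∈ kB.map (PC.of : ℕ → Γ), x * y * (x * y) ≠ f0) ∨
      ∀ y ∈ kB.map (PC.of : ℕ → Γ), x * y * (x * y) ∈ [1, f0, h0, f0 * h0]) ∧
    (x = 1 ∨ x = z0 ∨ (x.c ∈ kc ∧ (z0 * x).c ∈ kc) ∨ (x.c ∈ kh ∧ (z0 * x).c ∈ kh) ∨
      (x.c ∈ kb ∧ (z0 * x).c ∈ kb) ∨ x.c ∈ kf ∨ x.c ∈ kN) := enumA.all (by decide +kernel)

theorem memB : ∀ x ∈ clo gB, x ∈ kB.map PC.of := enumB.all (by decide +kernel)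

end Cfsg.Agent.HL
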