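/-
Groups with the involution centraliser of `L₅(2)`: fusion of involutions.
-/
import Cfsg.Agent.HL.Basic
import Cfsg.Agent.HL.Facts2

set_option autoImplicit false
set_option maxRecDepth 100000
set_option synthInstance.maxSize 4000

namespace Cfsg.Agent.HL

open HJ Subgroup PLoc

variable {G : Type*} [Group G] {a b c z e f h i j k s r : G}

set_option hygiene false in
local notation "ΔH" => gr gH [a, b, c, z, e, f, h, i, j, k, s, r]
set_option hygiene false in
local notation "TT" => clo [a, b, c, z, e, f, h, i, j, k]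
set_option hygiene false in
local notation "AA" => clo [b, c, z, e, f, h]
set_option hygiene false in
local notation "BB" => clo [j, h, z, i, f, c]
set_option hygiene false in
local notation "UU" => clo [a, b, c, z]

theorem isConj_cj (n x : G) : IsConj x (n * x * n⁻¹) := isConj_iff.mpr ⟨n, rfl⟩

variable (H : HT a b c z e f h i j k s r)
include H

theorem HT.isC {x0 w0 : Γ} {x w : G} (m : (x0, x) ∈ ΔH) (m' : (w0, w) ∈ ΔH) {W : List (List ℕ)}
    {k : List ℕ} (e : cls gH w0 W = k) (hx : x0.c ∈ k) : IsConj w x := by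
  obtain ⟨n, -, rfl⟩ := H.conj m m' e hx
  exact isConj_cj _ _

theorem HT.ne {x0 y0 : Γ} {x y : G} (m : (x0, x) ∈ ΔH) (m' : (y0, y) ∈ ΔH) (q : x0 ≠ y0) : x ≠ y :=
  fun q' => q (H.inj.eq m m' q')

variable [Finite G]

theorem HT.notN {x0 : Γ} {x : G} (m : (x0, x) ∈ ΔH) (hx : x0.c ∈ kN) : ¬ IsConj z x := by
  gens
  have key : ∀ {w0 w}, (w0, w) ∈ ΔH → w0.c ∈ kN → w0.c ∈ kA → w0.c ∈ kB → ¬ IsConj z w :=
    fun m1 h1 h2 h3 h4 => by
      obtain ⟨n, n1, n2, q⟩ := H.extW h4 (mem_of_gr H.fn grA m1 (of_kA h2)).1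
        (mem_of_gr H.fn grB m1 (of_kB h3)).1
      obtain ⟨x0, m2, m3⟩ := liftA (a := a) (i := i) (j := j) (k := k) (s := s) (r := r)
        (conj_mem_of_mem_normalizer n1 (mem_clo (by simp) : b ∈ _))
      obtain ⟨y0, m4, m5⟩ := liftB (a := a) (b := b) (e := e) (k := k) (s := s) (r := r)
        (conj_mem_of_mem_normalizer n2 (mem_clo (by simp) : j ∈ _))
      refine (fJ _ (mul_mem (A_le m2) (B_le m4))).1
        (H.inj.eq m1 (pm_mul (pm_mul m3 m5) (pm_mul m3 m5)) (by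
          rw [conj_mul, conj_mul, ← q, show b * j * (b * j) = z by hc]) ▸ h1)
  intro q
  rcases List.mem_append.mp hx with hx | hx
  · exact key (pm_mul mc mh) (by decide +kernel) (by decide +kernel) (by decide +kernel)
      (q.trans (H.isC m (by gm) kt_eq hx).symm)
  · exact key (pm_mul mf mz) (by decide +kernel) (by decide +kernel) (by decide +kernel)
      (q.trans (H.isC m (by gm) kn_eq hx).symm)

theorem HT.row {n : G} (n1 : n ∈ normalizer (AA : Set G)) (n2 : n ∈ normalizer (BB : Set G)) :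
    (n * z * n⁻¹ = c → n * c * n⁻¹ = z ∨ n * c * n⁻¹ = c * z) ∧
    (n * z * n⁻¹ = f → n * c * n⁻¹ = h ∨ n * c * n⁻¹ = f * h) := by
  gens
  obtain ⟨x0, m2, m3⟩ := liftA (a := a) (i := i) (j := j) (k := k) (s := s) (r := r)
    (conj_mem_of_mem_normalizer n1 (mem_clo (by simp) : b ∈ _))
  obtain ⟨y0, m4, m5⟩ := liftB (a := a) (b := b) (e := e) (k := k) (s := s) (r := r)
    (conj_mem_of_mem_normalizer n2 (mem_clo (by simp) : j ∈ _))
  obtain ⟨w0, m6, m7⟩ := liftB (a := a) (b := b) (e := e) (k := k) (s := s) (r := r)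
    (conj_mem_of_mem_normalizer n2 (mem_clo (by simp) : i ∈ _))
  have q1 : (x0 * y0 * (x0 * y0), n * z * n⁻¹) ∈ ΔH := by
    have := pm_mul (pm_mul m3 m5) (pm_mul m3 m5)
    rwa [conj_mul, conj_mul, show b * j * (b * j) = z by hc] at this
  have q2 : (x0 * w0 * (x0 * w0), n * c * n⁻¹) ∈ ΔH := by
    have := pm_mul (pm_mul m3 m7) (pm_mul m3 m7)
    rwa [conj_mul, conj_mul, show b * i * (b * i) = c by hc] at this
  have c1 : n * c * n⁻¹ ≠ 1 := by simpa using H.ne mc pm_one (by decide +kernel)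
  have c2 : n * c * n⁻¹ ≠ n * z * n⁻¹ := by simpa using H.ne mc mz (by decide +kernel)
  refine ⟨fun q => ?_, fun q => ?_⟩
  · have := ((fA x0 m2).1.resolve_left fun t => t _ (memB _ m4) (H.inj.eq q1 mc q)) _ (memB _ m6)
    simp only [List.mem_cons, List.not_mem_nil, or_false] at this
    rcases this with t | t | t | t
    exacts [absurd (H.fn.eq q2 pm_one t) c1, absurd ((H.fn.eq q2 mc t).trans q.symm) c2,
      Or.inl (H.fn.eq q2 mz t), Or.inr (H.fn.eq q2 (by gm) t)]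
  · have := ((fA x0 m2).2.1.resolve_left fun t => t _ (memB _ m4) (H.inj.eq q1 mf q)) _ (memB _ m6)
    simp only [List.mem_cons, List.not_mem_nil, or_false] at this
    rcases this with t | t | t | t
    exacts [absurd (H.fn.eq q2 pm_one t) c1, absurd ((H.fn.eq q2 mf t).trans q.symm) c2,
      Or.inl (H.fn.eq q2 mh t), Or.inr (H.fn.eq q2 (by gm) t)]

theorem HT.ofF (q : IsConj z f) : IsConj z c ∧ IsConj z h := by
  gens
  obtain ⟨n, n1, n2, q1⟩ := H.extW q (mem_clo (by simp)) (mem_clo (by simp))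
  have q2 : IsConj z (f * h) := q.trans (H.isC (by gm) mf kf_eq (by decide +kernel))
  have q3 : IsConj c (c * z) := H.isC (by gm) mc kc_eq (by decide +kernel)
  have q4 := q3.trans (isConj_cj n _)
  rw [← conj_mul, q1] at q4
  rcases (H.row n1 n2).2 q1 with t | t
  · rw [t, show h * f = f * h by hc] at q4
    exact ⟨q2.trans q4.symm, (q2.trans q4.symm).trans (t ▸ isConj_cj n c)⟩
  · rw [t, show f * h * f = h by hc] at q4
    have q5 := q2.trans (t ▸ isConj_cj n c).symm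
    exact ⟨q5, q5.trans q4⟩

theorem HT.ofB (q : IsConj z (f * b)) : IsConj z c ∧ IsConj z h := by
  gens
  by_cases qf : IsConj z f
  · exact H.ofF qf
  obtain ⟨n, n1, q1⟩ := H.extA q (mul_mem (mem_clo (by simp)) (mem_clo (by simp)))
  have key : ∀ {w0 w}, (w0, w) ∈ ΔH → w ∈ [c, h] → (f0 * b0 * w0).c ∈ kb → w0 ≠ 1 → IsConj z w :=
    fun {w0 w} m1 m2 h1 h2 => by
      have q2 : IsConj z (n⁻¹ * (f * b * w) * n⁻¹⁻¹) :=
        (q.trans (H.isC (by gm) (by gm) kb_eq h1)).trans (isConj_cj _ _)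
      obtain ⟨x0, m3, m4⟩ := liftA (a := a) (i := i) (j := j) (k := k) (s := s) (r := r)
        (conj_mem_of_mem_normalizer (inv_mem n1) (mul_mem (mul_mem (mem_clo (by simp))
          (mem_clo (by simp))) (mem_clo (by simp at m2 ⊢; tauto)) : f * b * w ∈ _))
      have q3 : w = n * (z * (n⁻¹ * (f * b * w) * n⁻¹⁻¹)) * n⁻¹ := by
        rw [← conj_mul, q1, ← cj_mul', mul_inv_cancel, one_mul, inv_one, mul_one, ← mul_assoc,
          show f * b * (f * b) = 1 by hc, one_mul]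
      generalize n⁻¹ * (f * b * w) * n⁻¹⁻¹ = x at *
      have k1 : ∀ {v0 v W l}, (v0, v) ∈ ΔH → cls gH v0 W = l → x0.c ∈ l ∧ (z0 * x0).c ∈ l →
          IsConj z w := fun m5 h3 h4 => q3 ▸ ((q2.trans (H.isC m4 m5 h3 h4.1).symm).trans
        (H.isC (by gm) m5 h3 h4.2)).trans (isConj_cj _ _)
      rcases (fA x0 m3).2.2 with t | t | t | t | t | t | t
      · exact absurd (by simpa [H.fn.eq m4 pm_one t] using q2) H.z12.2
      · exact absurd (by simpa [H.fn.eq m4 mz t, H.z12.1] using q3) (H.ne m1 pm_one h2)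
      exacts [k1 mc kc_eq t, k1 mh kh_eq t, k1 (pm_mul mf mb) kb_eq t,
        absurd (q2.trans (H.isC m4 mf kf_eq t).symm) qf, absurd q2 (H.notN m4 t)]
  exact ⟨key mc (by simp) (by decide +kernel) (by decide +kernel),
    key mh (by simp) (by decide +kernel) (by decide +kernel)⟩

theorem HT.invol {x : G} (h1 : x * z = z * x) (h2 : x * x = 1) : x = 1 ∨ x = z ∨
    ∃ w ∈ [c, h, f, c * h, f * z, f * b, f * j], ∃ n, n * z = z * n ∧ x = n * w * n⁻¹ := by
  gens
  obtain ⟨y, y1, y2⟩ := conj_into (H.sylT.of_le (clo_sub (by simp)) le_top) ((H.eq x).mpr h1) h2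
  replace y1 := (H.eq y).mp y1
  obtain ⟨x0, m0, m⟩ := liftT (s := s) (r := r) y2
  have k1 : ∀ {w}, (∃ n, n * z = z * n ∧ y * x * y⁻¹ = n * w * n⁻¹) →
      ∃ n, n * z = z * n ∧ x = n * w * n⁻¹ := fun ⟨n, q1, q2⟩ =>
    ⟨y⁻¹ * n, (Commute.mul_left (Commute.inv_left y1) q1).eq, by rw [cj_mul', ← q2]; group⟩
  rcases ((fT x0 m0).1 (H.inj.eq (by gm) pm_one (by rw [conj_mul, h2]; simp))).2.1 with
    t | t | t | t | t | t | t | t | t
  · exact Or.inl (by simpa using H.fn.eq m pm_one t)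
  · refine Or.inr (Or.inl ?_)
    rw [← cj_of_comm (Commute.inv_left y1).eq, ← H.fn.eq m mz t]; group
  all_goals refine Or.inr (Or.inr ?_)
  exacts [⟨_, by simp, k1 (H.conj m mc kc_eq t)⟩, ⟨_, by simp, k1 (H.conj m mh kh_eq t)⟩,
    ⟨_, by simp, k1 (H.conj m mf kf_eq t)⟩, ⟨_, by simp, k1 (H.conj m (pm_mul mc mh) kt_eq t)⟩,
    ⟨_, by simp, k1 (H.conj m (pm_mul mf mz) kn_eq t)⟩,
    ⟨_, by simp, k1 (H.conj m (pm_mul mf mb) kb_eq t)⟩,
    ⟨_, by simp, k1 (H.conj m (pm_mul mf mj) kj_eq t)⟩]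

theorem HT.zt {x : G} (h1 : x * z = z * x) (h2 : IsConj z x) : x = z ∨
    (∃ n, n * z = z * n ∧ x = n * c * n⁻¹) ∨ IsConj z h := by
  gens
  obtain ⟨y, rfl⟩ := isConj_iff.mp h2
  rcases H.invol h1 (by rw [conj_mul, H.z12.1]; simp) with t | t | ⟨w, t, n, q1, q2⟩
  · exact absurd (by simpa using t) H.z12.2
  · exact Or.inl t
  have q := h2.trans (q2 ▸ (isConj_cj n w).symm)
  simp only [List.mem_cons, List.not_mem_nil, or_false] at t
  rcases t with rfl | rfl | rfl | rfl | rfl | rfl | rfl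
  exacts [Or.inr (Or.inl ⟨n, q1, q2⟩), Or.inr (Or.inr q), Or.inr (Or.inr (H.ofF q).2),
    absurd q (H.notN (pm_mul mc mh) (by decide +kernel)),
    absurd q (H.notN (pm_mul mf mz) (by decide +kernel)), Or.inr (Or.inr (H.ofB q).2),
    Or.inr (Or.inr (H.flip.ofB q).1)]

theorem HT.swap (q : IsConj z c) :
    ∃ n ∈ normalizer (BB : Set G), n * z * n⁻¹ = c ∧ n * c * n⁻¹ = z := by
  gens
  obtain ⟨n, n1, n2, q1⟩ := H.extW q (mem_clo (by simp)) (mem_clo (by simp))
  rcases (H.row n1 n2).1 q1 with t | t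
  · exact ⟨n, n2, q1, t⟩
  · refine ⟨n * k, mul_mem n2 (H.flip.normA (mem_clo (by simp))), ?_, ?_⟩
    · rw [cj_mul', cj_of_comm (H.cz mk), q1]
    · rw [cj_mul', show k * c * k⁻¹ = c * z by hc, ← conj_mul, t, q1]
      hc

end Cfsg.Agent.HL
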