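/-
Groups with the involution centraliser of `L₅(2)`: the normaliser of a four-group.
-/
import Cfsg.Agent.HL.Types

set_option autoImplicit false
set_option maxRecDepth 100000
set_option synthInstance.maxSize 4000

namespace Cfsg.Agent.HL

open HJ Subgroup PLoc

variable {G : Type*} [Group G] {a b c z e f h i j k s r : G}

set_option hygiene false in
local notation "ΔH" => gr gH [a, b, c, z, e, f, h, i, j, k, s, r]
set_option hygiene false in
local notation "TT" => clo [a, b, c, z, e, f, h, i, j, k]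
set_option hygiene false in
local notation "AA" => clo [b, c, z, e, f, h]
set_option hygiene false in
local notation "BB" => clo [j, h, z, i, f, c]
set_option hygiene false in
local notation "UU" => clo [a, b, c, z]
set_option hygiene false in
local notation "ΔB" => gr gB [j, h, z, i, f, c]

theorem fB : ∀ y ∈ clo gB,
    (y * (s0 * e0 * y * (s0 * e0)⁻¹) * ((s0 * e0)⁻¹ * y * (s0 * e0)) = 1 →
      (a0 * y * a0⁻¹ = y ∨ a0 * y * a0⁻¹ = y * c0) → (b0 * y * b0⁻¹ = y ∨ b0 * y * b0⁻¹ = y * c0) →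
      y = 1 ∨ y = f0 ∨ (k0 * y * k0⁻¹ = y * (s0 * e0 * h0 * (s0 * e0)⁻¹) ∧
        h0 * (s0 * e0 * y * (s0 * e0)⁻¹) ≠ k0 * y * k0⁻¹) ∨
        (k0 * y * k0⁻¹ = y * (h0 * (s0 * e0 * h0 * (s0 * e0)⁻¹)) ∧
          h0 * (y * (s0 * e0 * y * (s0 * e0)⁻¹)) ≠ k0 * y * k0⁻¹)) ∧
    (y * (g0 * y * g0⁻¹) = 1 → (a0 * y * (a0 * y) = 1 → a0 * y * (s0 * e0 * (a0 * y) * (s0 * e0)⁻¹) *
      ((s0 * e0)⁻¹ * (a0 * y) * (s0 * e0)) = 1 → y = 1 ∨ y = c0 * (z0 * (i0 * j0))) ∧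
      (y * (s0 * e0) = s0 * e0 * y → y = 1 ∨ y = c0 * z0)) := enumB.all (by decide +kernel)

theorem fC' : ∀ x ∈ clo gC, x * f0 = f0 * x → x * h0 = h0 * x → x * i0 = i0 * x → x * j0 = j0 * x →
    x.c ∈ kB := centC.2.all (by decide +kernel)

/-- the common part of the action of `g` -/
structure G4 (c z f h i j k g : G) : Prop where
  g2 : g * g = 1
  gz : g * z * g⁻¹ = c
  gc : g * c * g⁻¹ = z
  gf : g * f * g⁻¹ = h
  gh : g * h * g⁻¹ = f
  gi : g * i * g⁻¹ = j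
  gj : g * j * g⁻¹ = i
  gk : (g * k) ^ 3 = 1

theorem cj2 {g x y : G} (g2 : g * g = 1) (q : g * x * g⁻¹ = y) : g * y * g⁻¹ = x := by
  rw [← q, ← cj_mul', g2]; simp

variable (H : HT a b c z e f h i j k s r)
include H

theorem HT.liftC {x : G} (h1 : x * z = z * x) (h2 : x * c = c * x) : ∃ x0 ∈ clo gC, (x0, x) ∈ ΔH := by
  gens
  obtain ⟨x0, m0, m⟩ := H.lift h1
  exact ⟨x0, centC.1 x0 m0 (H.inj.eq (by gm) (by gm) h2), m⟩

theorem HT.nrmB {x0 : Γ} {x : G} (m : (x0, x) ∈ ΔH) (m0 : x0 ∈ clo gC) :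
    (x0, x) ∈ normalizer (ΔB : Set (Γ × G)) ∧ x ∈ normalizer (BB : Set G) :=
  nrm_of H.fn grB m (nB (clo_sub (by simp) m0))

variable [Finite G]

theorem HT.exists_g0 (q : IsConj z c) : ∃ g ∈ normalizer (BB : Set G), g * g = 1 ∧
    g * z * g⁻¹ = c ∧ g * (s * e) = s * e * g ∧ (g * k) ^ 3 = 1 := by
  gens
  obtain ⟨z2, z1⟩ := H.z12
  have md : (s0 * e0, s * e) ∈ ΔH := by gm
  have dk : k * (s * e) = s * e * k := by hc
  have dn : s * e ≠ (s * e)⁻¹ := H.ne md (by gm) (by decide +kernel)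
  generalize s * e = d at *
  have dz : d * z = z * d := H.cz md
  have dc : d * c = c * d := by hc
  have cz : c * z = z * c := H.cz mc
  have c2 : c * c = 1 := by hc
  have cn : c ≠ z := H.ne mc mz (by decide +kernel)
  have F : ∀ {x}, x * z = z * x → x * c = c * x → x * d = d * x →
      (x ^ 3 = 1 ∨ x ^ 3 = z ∨ x ^ 3 = c ∨ x ^ 3 = c * z) ∧ (x ^ 3 = 1 → x = 1 ∨ x = d ∨ x = d⁻¹) :=
    fun h1 h2 h3 => by
      obtain ⟨x0, m0, m⟩ := H.liftC h1 h2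
      obtain ⟨f1, f2⟩ := (fC x0 m0).2.1 (H.inj.eq (by gm) (by gm) h3)
      have t := @H.fn.eq
      exact ⟨f1.imp (t (by gm) pm_one) (Or.imp (t (by gm) mz) (Or.imp (t (by gm) mc) (t (by gm) (by gm)))),
        fun q => (f2 (H.inj.eq (by gm) pm_one q)).imp (t m pm_one) (Or.imp (t m md) (t m (by gm)))⟩
  obtain ⟨g2, n2, e1, e2, e4⟩ : ∃ g ∈ normalizer (BB : Set G), g * z * g⁻¹ = c ∧ g * c * g⁻¹ = z ∧
      g * d = d * g := by
    obtain ⟨n, n1, e1, e2⟩ := H.swap q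
    obtain ⟨x0, m0, m⟩ := H.liftC (x := n * d * n⁻¹) (e2 ▸ cj_comm dc) (e1 ▸ cj_comm dz)
    rcases (fC x0 m0).1 (H.inj.eq (by gm) pm_one (by
      rw [conj_pow, show d ^ 3 = 1 by hc]; simp)) with t | t
    · have : d = 1 := by simpa using H.fn.eq m pm_one t
      exact absurd (by simp [this]) dn
    · obtain ⟨y0, m1, t⟩ := mem_cls kd_eq t
      obtain ⟨y, yz, m'⟩ := H.down (C_le m1)
      have yc : y * c = c * y := H.fn.eq (by gm) (by gm)
        (comm_clo (gs := gC) (z := c0) (by decide +kernel) y0 m1)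
      refine ⟨y⁻¹ * n, mul_mem (inv_mem (H.nrmB m' m1).2) n1, ?_, ?_, comm_of_cj ?_⟩
      · rw [cj_mul', e1, cj_of_comm (Commute.inv_left yc).eq]
      · rw [cj_mul', e2, cj_of_comm (Commute.inv_left yz).eq]
      · rw [cj_mul', H.fn.eq (y' := y * d * y⁻¹) m (by gm) t]; group
  obtain ⟨g, n, g2', e1, e4⟩ : ∃ g ∈ normalizer (BB : Set G), g * g = 1 ∧ g * z * g⁻¹ = c ∧
      g * d = d * g := by
    have k1 : g2 ^ 3 * z * (g2 ^ 3)⁻¹ = c := by rw [pow_three, cj_mul', cj_mul', e1, e2, e1]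
    have k2 : g2 ^ 3 * c * (g2 ^ 3)⁻¹ = z := by rw [pow_three, cj_mul', cj_mul', e2, e1, e2]
    have k3 : g2 ^ 3 * d = d * g2 ^ 3 := (Commute.pow_left e4 3).eq
    have k4 : (g2 * g2) ^ 3 = g2 ^ 3 * g2 ^ 3 := by rw [← pow_two, ← pow_mul, ← pow_add]
    have k5 := (F (x := g2 * g2) (comm_of_cj (by rw [cj_mul', e1, e2]))
      (comm_of_cj (by rw [cj_mul', e2, e1])) (Commute.mul_left e4 e4).eq).1
    have k6 := pow_mem n2 3
    rw [k4] at k5
    generalize g2 ^ 3 = g3 at *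
    rcases k5 with t | t | t | t
    · exact ⟨g3, k6, t, k1, k3⟩
    · exact absurd (by rw [← k1, ← t]; group) cn
    · exact absurd (by rw [← k2, ← t]; group) cn
    · refine ⟨g3 * z, mul_mem k6 (le_normalizer (mem_clo (by simp))), ?_,
        by rw [cj_mul', mul_inv_cancel_right, k1], by rw [mul_assoc, ← dz, ← mul_assoc, k3, mul_assoc]⟩
      calc g3 * z * (g3 * z) = g3 * z * g3⁻¹ * (g3 * g3) * z := by group
        _ = 1 := by rw [k1, t, ← mul_assoc, c2, one_mul, z2]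
  refine ⟨g, n, g2', e1, e4, ?_⟩
  have k1 : g * k * z * (g * k)⁻¹ = c := by rw [cj_mul', cj_of_comm (H.cz mk), e1]
  have k2 : g * k * c * (g * k)⁻¹ = c * z := by
    rw [cj_mul', show k * c * k⁻¹ = c * z by hc, ← conj_mul, e1, cj2 g2' e1, cz]
  have k3 : g * k * (c * z) * (g * k)⁻¹ = z := by rw [← conj_mul, k1, k2]; hc
  have k6 : Commute (g * k) d := Commute.mul_left e4 dk
  obtain ⟨f2, f3⟩ := F (x := (g * k) ^ 3)
    (comm_of_cj (by rw [pow_three, cj_mul' (g * k), cj_mul' (g * k), k1, k2, k3]))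
    (comm_of_cj (by rw [pow_three, cj_mul' (g * k), cj_mul' (g * k), k2, k3, k1])) (k6.pow_left 3).eq
  have k7 : g * k * ((g * k) ^ 3) ^ 3 * (g * k)⁻¹ = ((g * k) ^ 3) ^ 3 :=
    cj_of_comm (((Commute.refl (g * k)).pow_right 3).pow_right 3).eq
  have k8 : g * (g * k) ^ 3 * g⁻¹ = ((g * k) ^ 3)⁻¹ := by
    rw [← conj_pow, ← inv_pow, mul_inv_rev, inv_eq_of_sq (show k * k = 1 by hc), ← mul_assoc, g2',
      one_mul]
  have k9 : g * d⁻¹ * g⁻¹ = d⁻¹ := by rw [← conj_inv, cj_of_comm e4]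
  rcases f2 with t | t | t | t
  · rcases f3 t with t | t | t
    · exact t
    · rw [t, cj_of_comm e4] at k8; exact absurd k8 dn
    · rw [t, k9, inv_inv] at k8; exact absurd k8.symm dn
  · rw [t, k1] at k7; exact absurd k7 cn
  · rw [t, k2] at k7; exact absurd (by simpa using k7) z1
  · rw [t, k3] at k7
    exact absurd (by simpa using k7) (H.ne mc pm_one (by decide +kernel))

theorem HT.exists_g1 (q : IsConj z c) : ∃ g, G4 c z f h i j k g ∧
    (g * a * g⁻¹ = a ∨ g * a * g⁻¹ = a * (c * (z * (i * j)))) ∧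
    ∃ v, (v = 1 ∨ v = c * z) ∧ g * e * g⁻¹ = e * v ∧ g * s * g⁻¹ = s * v := by
  gens
  obtain ⟨g, n, g2, e1, e4, e5⟩ := H.exists_g0 q
  have e2 := cj2 g2 e1
  have md : (s0 * e0, s * e) ∈ ΔH := by gm
  have t := @H.fn.eq
  have k1 : ∀ w, s * e * (g * w * g⁻¹) * (s * e)⁻¹ = g * (s * e * w * (s * e)⁻¹) * g⁻¹ := fun w => by
    rw [← cj_mul', ← cj_mul', e4]
  have k2 : ∀ w, g * w * g⁻¹ * (s * e * (g * w * g⁻¹) * (s * e)⁻¹) *
      ((s * e)⁻¹ * (g * w * g⁻¹) * (s * e)) =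
      g * (w * (s * e * w * (s * e)⁻¹) * ((s * e)⁻¹ * w * (s * e))) * g⁻¹ := fun w => by
    have := k1 ((s * e)⁻¹ * w * (s * e))
    rw [show s * e * ((s * e)⁻¹ * w * (s * e)) * (s * e)⁻¹ = w by group] at this
    have k3 : (s * e)⁻¹ * (g * w * g⁻¹) * (s * e) = g * ((s * e)⁻¹ * w * (s * e)) * g⁻¹ := by
      rw [← this]; group
    rw [k1, k3, conj_mul, conj_mul]
  have k3 : ∀ {w0 w}, (w0, w) ∈ ΔH → w0 * w0 = 1 ∧ w0 * c0 = c0 * w0 ∧
      w0 * (s0 * e0 * w0 * (s0 * e0)⁻¹) * ((s0 * e0)⁻¹ * w0 * (s0 * e0)) = 1 →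
      w * (g * h * g⁻¹) * w⁻¹ = g * h * g⁻¹ ∨ w * (g * h * g⁻¹) * w⁻¹ = g * h * g⁻¹ * c :=
    fun {w0 w} m1 ⟨f1, f2, f3⟩ => by
      obtain ⟨x0, m0, m⟩ := H.liftC (x := g * w * g⁻¹) (e2 ▸ cj_comm (t (by gm) (by gm) f2))
        (e1 ▸ cj_comm (H.cz m1))
      have := (fC x0 m0).2.2.2 (H.inj.eq (by gm) pm_one (by
        rw [conj_mul, t (y := w * w) (by gm) pm_one f1]; simp)) (H.inj.eq (by gm) pm_one (by
        rw [k2, t (y := w * (s * e * w * (s * e)⁻¹) * ((s * e)⁻¹ * w * (s * e))) (by gm) pm_one f3]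
        simp))
      have k4 : w * (g * h * g⁻¹) * w⁻¹ = g * (g * w * g⁻¹ * h * (g * w * g⁻¹)⁻¹) * g⁻¹ := by
        conv_lhs => rw [← cj2 g2 (rfl : g * w * g⁻¹ = _)]
        group
      rw [k4, ← e1, conj_mul]
      exact this.imp (fun q => by rw [t (y := _ * h * _) (by gm) mh q]) fun q => by
        rw [t (y := _ * h * _) (y' := h * z) (by gm) (by gm) q]
  have k5 : ∀ w, g * (k * (g * w * g⁻¹) * k⁻¹) * g⁻¹ = k * (g * (k * w * k⁻¹) * g⁻¹) * k⁻¹ := fun w => by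
    have : g * (k * g) * (k * (g * k)) = 1 := by rw [← e5, pow_three]; group
    have := eq_inv_of_mul_eq_one_left this
    rw [mul_inv_rev, mul_inv_rev, inv_eq_of_sq g2, inv_eq_of_sq (show k * k = 1 by hc),
      ← mul_assoc] at this
    rw [← cj_mul', ← cj_mul', ← cj_mul', ← cj_mul', this]
  have gh : g * h * g⁻¹ = f := by
    obtain ⟨y0, m0, m⟩ := liftB (a := a) (b := b) (e := e) (k := k) (s := s) (r := r)
      (conj_mem_of_mem_normalizer n (mem_clo (by simp) : h ∈ _))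
    have k6 := k5 h
    rw [show k * h * k⁻¹ = h by hc] at k6
    rcases (fB y0 m0).1 (H.inj.eq (by gm) pm_one (by
      rw [k2, show h * (s * e * h * (s * e)⁻¹) * ((s * e)⁻¹ * h * (s * e)) = 1 by hc]; simp))
      ((k3 ma (by decide +kernel)).imp (H.inj.eq (by gm) m) (H.inj.eq (by gm) (by gm)))
      ((k3 mb (by decide +kernel)).imp (H.inj.eq (by gm) m) (H.inj.eq (by gm) (by gm))) with
      u | u | u | u
    · exact absurd (by simpa using t m pm_one u) (H.ne mh pm_one (by decide +kernel))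
    · exact t m mf u
    · refine absurd (H.inj.eq (y := h * (s * e * (g * h * g⁻¹) * (s * e)⁻¹)) (by gm) (by gm) ?_) u.2
      rw [← k6, t (y := k * _ * k⁻¹) (y' := g * h * g⁻¹ * (s * e * h * (s * e)⁻¹)) (by gm) (by gm) u.1,
        k1, ← conj_mul (b := g) (a := g * h * g⁻¹), cj2 g2 rfl]
    · refine absurd (H.inj.eq (y := h * (g * h * g⁻¹ * (s * e * (g * h * g⁻¹) * (s * e)⁻¹)))
        (by gm) (by gm) ?_) u.2
      rw [← k6, t (y := k * _ * k⁻¹) (y' := g * h * g⁻¹ * (h * (s * e * h * (s * e)⁻¹))) (by gm)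
        (by gm) u.1, k1, ← conj_mul (b := g) (a := g * h * g⁻¹), cj2 g2 rfl, conj_mul]
  have gj : g * j * g⁻¹ = i := by
    rw [show j = s * e * h * (s * e)⁻¹ by hc, ← k1, gh]; hc
  have D : G4 c z f h i j k g := ⟨g2, e1, e2, cj2 g2 gh, gh, cj2 g2 gj, gj, e5⟩
  have mB : ∀ p ∈ gB.zip [j, h, z, i, f, c], p ∈ ΔB := fun _ => mem_clo
  simp only [List.zip_cons_cons, List.forall_mem_cons] at mB
  obtain ⟨bj, bh, bz, bi, bf, bc, -⟩ := mB
  have ng : (g0, g) ∈ normalizer (ΔB : Set (Γ × G)) := norm_clo (by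
    have : g0 * j0 * g0⁻¹ = i0 ∧ g0 * h0 * g0⁻¹ = f0 ∧ g0 * z0 * g0⁻¹ = c0 ∧ g0 * i0 * g0⁻¹ = j0 ∧
      g0 * f0 * g0⁻¹ = h0 ∧ g0 * c0 * g0⁻¹ = z0 := by decide +kernel
    simpa [this, D.gj, D.gh, D.gz, D.gi, D.gf, D.gc] using ⟨bi, bf, bc, bj, bh, bz⟩)
  have key : ∀ {w0 w}, (w0, w) ∈ ΔH → w0 ∈ gC → w0 * w0 = 1 ∧ w0 * (g0 * w0 * g0⁻¹) = 1 →
      ∃ y0 ∈ clo gB, ∃ y, (y0, y) ∈ ΔH ∧ g * w * g⁻¹ = w * y ∧ y0 * (g0 * y0 * g0⁻¹) = 1 :=
    fun {w0 w} m1 m2 ⟨f1, f2⟩ => by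
      have n1 := (H.nrmB m1 (mem_clo m2)).1
      have n2 : (w0 * (g0 * w0 * g0⁻¹), w * (g * w * g⁻¹)) ∈ normalizer (ΔB : Set (Γ × G)) := by gm
      have w2 : w * w = 1 := t (by gm) pm_one f1
      have k7 : g * w * g⁻¹ = w * (w * (g * w * g⁻¹)) := by rw [← mul_assoc, w2, one_mul]
      have k8 : w * (g * w * g⁻¹) * (g * (w * (g * w * g⁻¹)) * g⁻¹) = 1 := by
        rw [← conj_mul, cj2 g2 rfl, mul_assoc, ← mul_assoc (g * w * g⁻¹), conj_mul, w2]; simp [w2]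
      generalize w * (g * w * g⁻¹) = y at *
      rw [f2] at n2
      have c1 : ∀ {x0 x}, (x0, x) ∈ ΔB → y * x = x * y := fun m =>
        comm_of_cj (t (grB (nj n2 m)) (grB m) (by simp))
      obtain ⟨y0, m0, m⟩ := H.liftC (c1 bz) (c1 bc)
      have m3 := of_kB (fC' y0 m0 (H.inj.eq (by gm) (by gm) (c1 bf)) (H.inj.eq (by gm) (by gm) (c1 bh))
        (H.inj.eq (by gm) (by gm) (c1 bi)) (H.inj.eq (by gm) (by gm) (c1 bj)))
      exact ⟨y0, m3, y, m, k7,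
        H.inj.eq (pm_mul m (grB (nj ng (mem_of_gr H.fn grB m m3).2))) pm_one k8⟩
  refine ⟨g, D, ?_, ?_⟩
  · obtain ⟨y0, m0, y, m, u1, u2⟩ := key ma (by simp) (by decide +kernel)
    rcases ((fB y0 m0).2 u2).1 (H.inj.eq (by gm) pm_one (by
        rw [← u1, conj_mul, show a * a = 1 by hc]; simp)) (H.inj.eq (by gm) pm_one (by
        rw [← u1, k2, show a * (s * e * a * (s * e)⁻¹) * ((s * e)⁻¹ * a * (s * e)) = 1 by hc]; simp))
      with u | u
    · exact Or.inl (by rw [u1, t m pm_one u, mul_one])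
    · exact Or.inr (by rw [u1, t (y' := c * (z * (i * j))) m (by gm) u])
  · obtain ⟨y0, m0, y, m, u1, u2⟩ := key me (by simp) (by decide +kernel)
    have u3 : e * (s * e) * e⁻¹ = (s * e)⁻¹ := by hc
    have u4 : e * y * (s * e) * (e * y)⁻¹ = (s * e)⁻¹ := by
      rw [← u1, ← cj_of_comm e4, conj_inv, conj_mul, conj_mul, u3, conj_inv]
    refine ⟨y, (((fB y0 m0).2 u2).2 (H.inj.eq (by gm) (by gm) (comm_of_cj ?_))).imp (t m pm_one)
      (t m (by gm)), u1, ?_⟩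
    · rw [← u3, cj_mul'] at u4
      exact mul_left_cancel (mul_right_cancel u4)
    · rw [show s = s * e * e by hc, ← conj_mul, u1, cj_of_comm e4, mul_assoc (s * e)]

end Cfsg.Agent.HL
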