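/-
Groups with the involution centraliser of `L₅(2)`: the centraliser of a non-central involution.
-/
import Cfsg.Agent.HL.G4
import Cfsg.Agent.HL.Facts3
import Cfsg.Agent.HL.Abs

set_option autoImplicit false
set_option maxRecDepth 100000
set_option synthInstance.maxSize 4000

namespace Cfsg.Agent.HL

open HJ Subgroup PLoc

variable {G : Type*} [Group G] {a b c z e f h i j k s r : G}

set_option hygiene false in
local notation "ΔH" => gr gH [a, b, c, z, e, f, h, i, j, k, s, r]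
set_option hygiene false in
local notation "TT" => clo [a, b, c, z, e, f, h, i, j, k]
set_option hygiene false in
local notation "AA" => clo [b, c, z, e, f, h]
set_option hygiene false in
local notation "BB" => clo [j, h, z, i, f, c]
set_option hygiene false in
local notation "UU" => clo [a, b, c, z]
set_option hygiene false in
local notation "VV" => clo [c * h, z * f * h]

theorem mem_CV {t u x : G} : x ∈ centralizer (clo [t, u] : Set G) ↔ x * t = t * x ∧ x * u = u * x :=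
  ⟨fun q => ⟨(q t (mem_clo (by simp))).symm, (q u (mem_clo (by simp))).symm⟩,
    fun q => comm_clo (by simp [q.1, q.2])⟩

theorem two_cj {n x : G} (q : ∃ k, (n⁻¹ * x * n) ^ 2 ^ k = 1) : ∃ k, x ^ 2 ^ k = 1 :=
  q.imp fun k q => by
    have := @conj_pow _ _ (2 ^ k) n⁻¹ x
    exact conj_eq_one_iff.mp (this.symm.trans (by rwa [inv_inv]))

theorem comm_cj' {n x w : G} (q : x * (n * w * n⁻¹) = n * w * n⁻¹ * x) :
    n⁻¹ * x * n * w = w * (n⁻¹ * x * n) := by
  have := cj_comm (g := n⁻¹) q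
  rwa [show n⁻¹ * (n * w * n⁻¹) * n⁻¹⁻¹ = w by group, inv_inv] at this

variable (H : HT a b c z e f h i j k s r)
include H

theorem HT.liftV {v : G} (hv : v ∈ VV) : ∃ v0 ∈ LV, (v0, v) ∈ ΔH := by
  gens
  rcases memV (by hc) (by hc) (by hc) v hv with rfl | rfl | rfl | rfl
  exacts [⟨1, by simp, pm_one⟩, ⟨c0 * h0, by simp, by gm⟩, ⟨z0 * f0 * h0, by simp, by gm⟩,
    ⟨c0 * h0 * (z0 * f0 * h0), by simp, by gm⟩]

theorem HT.ofV {v0 : Γ} {v : G} (m : (v0, v) ∈ ΔH) (hv : v0 ∈ LV) : v ∈ VV := by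
  gens
  have m1 : c * h ∈ VV := mem_clo (by simp)
  have m2 : z * f * h ∈ VV := mem_clo (by simp)
  simp only [List.mem_cons, List.not_mem_nil, or_false] at hv
  rcases hv with q | q | q | q
  exacts [H.fn.eq m pm_one q ▸ one_mem _, H.fn.eq (y' := c * h) m (by gm) q ▸ m1,
    H.fn.eq (y' := z * f * h) m (by gm) q ▸ m2,
    H.fn.eq (y' := c * h * (z * f * h)) m (by gm) q ▸ mul_mem m1 m2]

theorem HT.liftS {x : G} (h1 : x * z = z * x) (h2 : x * (c * h) = c * h * x) :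
    ∃ x0 ∈ clo gS, (x0, x) ∈ ΔH := by
  gens
  obtain ⟨x0, m0, m⟩ := H.lift h1
  exact ⟨x0, centS.1 x0 m0 (H.inj.eq (by gm) (by gm) h2), m⟩

theorem HT.liftJ {x : G} (h1 : x * z = z * x) (h2 : x ∈ centralizer (VV : Set G)) :
    ∃ x0 ∈ clo gJ, (x0, x) ∈ ΔH := by
  gens
  obtain ⟨x0, m0, m⟩ := H.liftS h1 (mem_CV.mp h2).1
  refine ⟨x0, centJ.1 x0 (gr_mem m).1 ((fS x0 m0).2.resolve_right fun q => ?_).2, m⟩
  exact H.ne (x := z * f * h) (y := c * h * (z * f * h)) (by gm) (by gm) (by decide +kernel)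
    ((cj_of_comm (mem_CV.mp h2).2).symm.trans (H.fn.eq (by gm) (by gm) q))

theorem HT.two {x0 : Γ} {x : G} (m : (x0, x) ∈ ΔH) (m0 : x0 ∈ clo gT) : ∃ k, x ^ 2 ^ k = 1 :=
  isPGroup_iff_forall.mp H.twoT x (mem_of_gr H.fn grT m m0).1

theorem HT.ofR (q : IsConj z f) (q1 : IsConj z c) (q2 : IsConj z h) {x0 : Γ} {x : G}
    (m : (x0, x) ∈ ΔH) (hx : x0.c ∈ kR) : IsConj z x := by
  gens
  simp only [kR, List.mem_cons, List.mem_append, List.cons_append] at hx
  rcases hx with t | (t | t) | t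
  exacts [H.fn.eq m mz (PC.ext' t) ▸ IsConj.refl _, q1.trans (H.isC m mc kc_eq t),
    q2.trans (H.isC m mh kh_eq t), q.trans (H.isC m mf kf_eq t)]

variable [Finite G]

theorem HT.sylS : IsSylowOf 2 (centralizer {z} ⊓ centralizer {c * h}) (centralizer {c * h}) := by
  gens
  have mS : ∀ {x}, x ∈ centralizer {z} ⊓ centralizer {c * h} ↔
      x * z = z * x ∧ x * (c * h) = c * h * x := by
    simp [mem_centralizer_singleton_iff]
  refine isSylowOf_of_maximal (isPGroup_iff_forall.mpr fun x hx => ?_) inf_le_right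
    fun Q hQ l hl => ?_
  · obtain ⟨x0, m0, m⟩ := H.liftS (mS.mp hx).1 (mS.mp hx).2
    exact H.two m (S_le m0)
  by_contra ne
  obtain ⟨x, h2, h3, h4⟩ := exists_mem_normalizer_not_mem hQ (lt_of_le_of_ne hl (Ne.symm ne))
  have h5 := mS.mp (conj_mem_of_mem_normalizer h3 (mS.mpr ⟨rfl, by hc⟩))
  obtain ⟨w0, m0, m⟩ := H.liftS h5.1 h5.2
  have t : ∀ {y0 y}, (y0, y) ∈ ΔH → y0 * (c0 * h0) = c0 * h0 * y0 → w0 * y0 = y0 * w0 :=
    fun {y0 y} m1 m2 => H.inj.eq (by gm) (by gm) (by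
      have := cj_comm (g := x) (mS.mp (conj_mem_of_mem_normalizer' h3
        (mS.mpr ⟨H.cz m1, H.fn.eq (by gm) (by gm) m2⟩))).1
      rw [show x * (x⁻¹ * y * x) * x⁻¹ = y by group] at this
      exact this.symm)
  rcases ((fT w0 (S_le m0)).2 (t mb (by decide +kernel)) (t me (by decide +kernel))
    (t mi (by decide +kernel)) (t mj (by decide +kernel))).1
    (t (pm_mul ma mk) (by decide +kernel)) with u | u | u
  · exact H.z12.2 (by simpa using H.fn.eq m pm_one u)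
  · exact h4 ⟨mem_centralizer_singleton_iff.mpr (comm_of_cj (H.fn.eq m mz u)), l h2⟩
  · exact H.notN m u (isConj_cj _ _)

theorem HT.intoJ {R : Subgroup G} (hR : IsPGroup 2 R) (l : R ≤ centralizer (VV : Set G)) :
    ∃ n ∈ centralizer (VV : Set G), ∀ x ∈ R, ∃ x0 ∈ clo gJ, (x0, n * x * n⁻¹) ∈ ΔH := by
  gens
  obtain ⟨n, h1, h2⟩ := (H.sylS.inf_of_le (N := centralizer (VV : Set G))
    (fun x hx => mem_centralizer_singleton_iff.mpr (mem_CV.mp hx).1)
    (le_normalizer_centralizer fun x hx => norm_clo fun y hy => by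
      have q := mem_centralizer_singleton_iff.mp hx.2
      obtain ⟨x0, m0, m⟩ := H.liftS (mem_centralizer_singleton_iff.mp hx.1) q
      simp only [List.mem_cons, List.not_mem_nil, or_false] at hy
      rcases hy with rfl | rfl
      · rw [cj_of_comm q]; exact mem_clo (by simp)
      · exact H.ofV (v0 := x0 * (z0 * f0 * h0) * x0⁻¹) (by gm)
          (by rcases (fS x0 m0).2 with t | t <;> simp [t]))).exists_cj_le hR l
  refine ⟨n, h1, fun x hx => ?_⟩
  have := h2 (conj_mem_cj.mpr hx)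
  exact H.liftJ (mem_centralizer_singleton_iff.mp this.1.1) this.2

theorem HT.nz {x : G} (hx : x * (c * h) = c * h * x) : ¬ IsConj z (x * (z * f * h) * x⁻¹) ∧
    ¬ IsConj z (x * (z * f * h) * x⁻¹ * (c * h)) := by
  gens
  refine ⟨fun q => H.notN (x := z * f * h) (by gm) (by decide +kernel)
    (q.trans (isConj_cj _ _).symm), fun q => H.notN (x := z * f * h * (c * h)) (by gm)
      (by decide +kernel) (q.trans ?_)⟩
  rw [← cj_of_comm hx, conj_mul, cj_of_comm hx]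
  exact (isConj_cj _ _).symm

theorem HT.isoA (q : IsConj z f) {x : G} (hx : x * (c * h) = c * h * x)
    (hu : x * (z * f * h) * x⁻¹ ∈ AA) : x * (z * f * h) * x⁻¹ ∈ VV := by
  gens
  obtain ⟨q1, q2⟩ := H.ofF q
  obtain ⟨n1, n2⟩ := H.nz hx
  have lA := @liftA G _ a b c z e f h i j k s r
  have mA : ∀ y ∈ [b, c, z, e, f, h], y ∈ AA := fun y => mem_clo
  simp only [List.forall_mem_cons] at mA
  obtain ⟨-, a1, a2, -, a3, a4, -⟩ := mA
  obtain ⟨u0, m0, m⟩ := lA hu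
  have r1 := fun t => n1 (H.ofR q q1 q2 m t)
  have r2 := fun t => n2 (H.ofR q q1 q2 (pm_mul m (pm_mul mc mh)) t)
  by_cases qb : IsConj z (f * b)
  · refine H.ofV m (((fA2 u0 m0).1.resolve_left fun t => ?_).resolve_left fun t => ?_)
    · exact (List.mem_append.mp t).elim r1 fun t => n1 (qb.trans (H.isC m (by gm) kb_eq t))
    · exact (List.mem_append.mp t).elim r2 fun t => n2 (qb.trans (H.isC (by gm) (by gm) kb_eq t))
  obtain ⟨n, h1, h2⟩ := H.intoJ (isPGroup_cj x⁻¹ (H.twoT.to_le (clo_sub (by simp) : AA ≤ TT)))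
    (cj_le_iff'.mpr fun y hy => by
      rw [inv_inv]
      exact mem_CV.mpr ⟨comm_cj' (by rw [cj_of_comm hx]; exact (H.eaA hy).2 _ (mul_mem a1 a4)),
        comm_cj' ((H.eaA hy).2 _ hu)⟩)
  have h3 : x * n⁻¹ ∈ normalizer (AA : Set G) := H.normOf fun y hy => by
    obtain ⟨y0, m1, m2⟩ := h2 _ (conj_mem_cj.mpr hy)
    rw [show (x * n⁻¹)⁻¹ * y * (x * n⁻¹) = n * (x⁻¹ * y * x⁻¹⁻¹) * n⁻¹ by group]
    exact (mem_of_gr H.fn grT m2 (J_le m1)).1
  have h4 := mem_CV.mp (inv_mem h1)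
  have h5 : x * n⁻¹ * (c * h) * (x * n⁻¹)⁻¹ = c * h := by rw [cj_mul', cj_of_comm h4.1, cj_of_comm hx]
  have h6 : x * n⁻¹ * (z * f * h) * (x * n⁻¹)⁻¹ = x * (z * f * h) * x⁻¹ := by
    rw [cj_mul', cj_of_comm h4.2]
  generalize x * n⁻¹ = p at h3 h5 h6
  have nb : ∀ {y0 y}, (y0, y) ∈ ΔH → IsConj z y → ¬ y0.c ∈ kN ++ kb ∧ y0 ≠ 1 := fun m1 t =>
    ⟨fun t1 => (List.mem_append.mp t1).elim (fun t1 => H.notN m1 t1 t)
      fun t1 => qb (t.trans (H.isC m1 (by gm) kb_eq t1).symm),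
      fun t1 => H.z12.2 (by simpa [H.fn.eq m1 pm_one t1] using t)⟩
  have key : ∀ {w0 w}, (w0, w) ∈ ΔH → w ∈ AA → w0.c ∈ kR → (w0 * (c0 * h0)).c ∈ kR →
      p * w * p⁻¹ ∈ BB := fun {w0 w} m1 m2 t1 t2 => by
    obtain ⟨y0, m3, m4⟩ := lA (conj_mem_of_mem_normalizer h3 m2)
    have s1 := nb m4 ((H.ofR q q1 q2 m1 t1).trans (isConj_cj p _))
    have s2 := nb (pm_mul m4 (pm_mul mc mh)) (by
      rw [← h5, conj_mul]; exact (H.ofR q q1 q2 (by gm) t2).trans (isConj_cj p _))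
    exact (mem_of_gr H.fn grB m4 (of_kB (by have := (fA2 y0 m3).2.1; tauto))).1
  have h7 : x * (z * f * h) * x⁻¹ ∈ BB := by
    rw [← h6, show z * f * h = z * c * (f * c) * h by hc, ← conj_mul, ← conj_mul]
    exact mul_mem (mul_mem (key (pm_mul mz mc) (mul_mem a2 a1) (by decide +kernel) (by decide +kernel))
      (key (pm_mul mf mc) (mul_mem a3 a1) (by decide +kernel) (by decide +kernel)))
      (key mh a4 (by decide +kernel) (by decide +kernel))
  obtain ⟨w0, m1, m2⟩ := liftB (a := a) (b := b) (e := e) (k := k) (s := s) (r := r) h7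
  exact H.ofV m ((((fA2 u0 m0).2.2 (H.inj.eq m2 m rfl ▸ fK.2.1 w0 m1)).1.resolve_left
    r1).resolve_left r2)

theorem HT.isoS (q : IsConj z f) {x : G} (hx : x * (c * h) = c * h * x)
    (hu : x * (z * f * h) * x⁻¹ * z = z * (x * (z * f * h) * x⁻¹)) :
    x * (z * f * h) * x⁻¹ ∈ VV := by
  gens
  obtain ⟨q1, q2⟩ := H.ofF q
  have c1 : x * (z * f * h) * x⁻¹ * (c * h) = c * h * (x * (z * f * h) * x⁻¹) := by
    rw [← cj_of_comm hx]; exact cj_comm (by hc)
  obtain ⟨u0, m0, m⟩ := H.liftS hu c1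
  rcases (fS u0 m0).1 (H.inj.eq (by gm) pm_one (by
    rw [conj_mul, show z * f * h * (z * f * h) = 1 by hc]; simp)) with t | t | ⟨t, t1⟩
  · exact H.isoA q hx (mem_of_gr H.fn grA m (of_kA t)).1
  · have e1 : h * c = c * h := by hc
    have e2 : x * (z * f * c) * x⁻¹ = c * h * (x * (z * f * h) * x⁻¹) := by
      rw [← cj_of_comm hx, conj_mul, show c * h * (z * f * h) = z * f * c by hc]
    have := H.flip.isoA q (e1 ▸ hx) (e2 ▸ mul_mem (mul_mem (mem_clo (by simp)) (mem_clo (by simp)))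
      (mem_of_gr H.fn grB m (of_kB t)).1)
    replace this : _ ∈ VV := clo_le (by
      simp only [List.forall_mem_cons]
      exact ⟨H.ofV (by gm) (by decide +kernel), H.ofV (by gm) (by decide +kernel), by simp⟩) this
    exact (mul_mem_cancel_left (mem_clo (by simp))).mp (e2 ▸ this)
  obtain ⟨y, y1, y2, y3⟩ : ∃ y, y * y = z ∧ y * (c * h) = c * h * y ∧
      y * (x * (z * f * h) * x⁻¹) = x * (z * f * h) * x⁻¹ * y := t1.elim
    (fun t1 => ⟨b * j, by hc, by hc, H.fn.eq (by gm) (by gm) t1⟩)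
    fun t1 => ⟨b * c * j, by hc, by hc, H.fn.eq (by gm) (by gm) t1⟩
  obtain ⟨n, h1, h2⟩ := H.intoJ (isPGroup_cj x⁻¹ (isPGroup_zpowers (x := y) (k := 2) (by
      rw [show 2 ^ 2 = 2 + 2 by rfl, pow_add, pow_two, y1, H.z12.1])))
    (by
      rw [cj_zpowers, zpowers_le, inv_inv]
      exact mem_CV.mpr ⟨comm_cj' (by rwa [cj_of_comm hx]), comm_cj' y3⟩)
  obtain ⟨y0, m1, m2⟩ := h2 _ (conj_mem_cj.mpr (mem_zpowers y))
  have m3 := pm_mul m2 m2
  rw [conj_mul, conj_mul, y1, ← cj_mul'] at m3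
  have h4 := mem_CV.mp h1
  have h5 : n * x⁻¹ * (c * h) * (n * x⁻¹)⁻¹ = c * h := by
    rw [cj_mul', cj_of_comm (Commute.inv_left hx).eq, cj_of_comm h4.1]
  have h6 : n * x⁻¹ * (x * (z * f * h) * x⁻¹) * (n * x⁻¹)⁻¹ = z * f * h := by
    rw [← cj_mul', inv_mul_cancel_right, cj_of_comm h4.2]
  rcases (fJ y0 m1).2.1 with t2 | t2
  · exact absurd (conj_eq_one_iff.mp (H.fn.eq m3 pm_one t2)) H.z12.2
  rcases t2 _ (List.mem_cons_self ..) with t2 | t2
  · have := H.ofR q q1 q2 (pm_mul m3 (pm_mul mc mh)) t2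
    rw [← h5, conj_mul] at this
    exact (H.notN (x := z * (c * h)) (by gm) (by decide +kernel)
      (this.trans (isConj_cj _ _).symm)).elim
  · have := H.ofR q q1 q2 (pm_mul m3 (pm_mul (pm_mul mz mf) mh)) t2
    rw [← h6, conj_mul] at this
    exact (H.notN (pm_mul mz m) t (this.trans (isConj_cj _ _).symm)).elim

theorem HT.twoW (q : IsConj z f) {w x : G} (h1 : IsConj z w) (h2 : w ∈ AA) (h3 : w ∈ BB)
    (h4 : x * w = w * x) (h5 : x * (c * h) = c * h * x) : ∃ k, x ^ 2 ^ k = 1 := by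
  gens
  obtain ⟨q1, q2⟩ := H.ofF q
  obtain ⟨n, n1, n2, rfl⟩ := H.extW h1 h2 h3
  have t1 : c * h ∈ AA := mul_mem (mem_clo (by simp)) (mem_clo (by simp))
  have t2 : c * h ∈ BB := mul_mem (mem_clo (by simp)) (mem_clo (by simp))
  obtain ⟨u0, m0, m⟩ := liftA (a := a) (i := i) (j := j) (k := k) (s := s) (r := r)
    (conj_mem_of_mem_normalizer' n1 t1)
  obtain ⟨w0, m1, m2⟩ := liftB (a := a) (b := b) (e := e) (k := k) (s := s) (r := r)
    (conj_mem_of_mem_normalizer' n2 t2)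
  have c1 := comm_cj' h4
  have c2 := cj_comm (g := n⁻¹) h5
  rw [inv_inv] at c2
  refine two_cj (n := n) ?_
  generalize n⁻¹ * x * n = y at c1 c2
  rcases ((fA2 u0 m0).2.2 (H.inj.eq m2 m rfl ▸ fK.2.1 w0 m1)).2 with t | t | t
  · exact absurd (conj_eq_one_iff.mp (by rw [inv_inv]; exact H.fn.eq m pm_one t))
      (H.ne (pm_mul mc mh) pm_one (by decide +kernel))
  · refine absurd ((H.ofR q q1 q2 m t).trans ?_) (H.notN (pm_mul mc mh) (by decide +kernel))
    simpa using (isConj_cj n⁻¹ (c * h)).symm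
  have c3 : ∀ {p}, p * z = z * p → p⁻¹ * y * p * z = z * (p⁻¹ * y * p) := fun c3 =>
    comm_cj' (by rwa [cj_of_comm c3])
  rcases List.mem_append.mp t with t | t
  · obtain ⟨p, p1, p2⟩ := H.conj m (pm_mul mc mh) kt_eq t
    obtain ⟨y0, m3, m4⟩ := H.liftS (c3 p1) (comm_cj' (p2 ▸ c2))
    exact two_cj (H.two m4 (S_le m3))
  · obtain ⟨p, p1, p2⟩ := H.conj m (pm_mul mf mz) kn_eq t
    obtain ⟨y0, m3, m4⟩ := H.lift (c3 p1)
    have c4 := H.inj.eq (pm_mul m4 (pm_mul mf mz)) (pm_mul (pm_mul mf mz) m4) (comm_cj' (p2 ▸ c2))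
    rw [mul_assoc, ← zH y0 m3, ← mul_assoc, ← mul_assoc] at c4
    exact two_cj (H.two m4 (J_le (centJ.1 y0 m3 (mul_right_cancel c4))))

theorem HT.normV (q : IsConj z f) : ∀ x ∈ centralizer {c * h},
    x * (z * f * h) * x⁻¹ = z * f * h ∨ x * (z * f * h) * x⁻¹ = z * f * h * (c * h) := by
  gens
  obtain ⟨q1, q2⟩ := H.ofF q
  have mC : ∀ {x y : G}, x * y = y * x → x ∈ centralizer {y} := mem_centralizer_singleton_iff.mpr
  have t1 : z * f * h ≠ 1 := H.ne (by gm) pm_one (by decide +kernel)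
  have t2 : z * f * h ≠ c * h := H.ne (by gm) (by gm) (by decide +kernel)
  refine zstar_mod (mC rfl) (fun x => mem_centralizer_singleton_iff.mp) (by hc) (by hc) t1 t2 H.sylS
    ⟨mC (by hc), mC (by hc)⟩ ⟨mC (by hc), mC rfl⟩ (fun x hx h1 => ?_) (p := z) (q := c) (mC (by hc))
    (mC (by hc)) (by hc) (by hc) fun N l _ _ w hw x hx t => ?_
  · replace hx := mem_centralizer_singleton_iff.mp hx
    rcases memV (by hc) (by hc) (by hc) _ (H.isoS q hx (mem_centralizer_singleton_iff.mp h1.1)) with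
      t | t | t | t
    · exact absurd (by simpa using t) t1
    · exact absurd (by simpa using t.trans (cj_of_comm hx).symm) t2
    exacts [Or.inl t, Or.inr (t.trans (by hc))]
  · have mA : z ∈ AA ∧ c ∈ AA ∧ z ∈ BB ∧ c ∈ BB := by and_intros <;> exact mem_clo (by simp)
    simp only [List.mem_cons, List.not_mem_nil, or_false] at hw
    refine H.twoW q ?_ ?_ ?_ t (mem_centralizer_singleton_iff.mp (l hx)) <;>
      rcases hw with rfl | rfl | rfl
    exacts [IsConj.refl _, q1, H.ofR q q1 q2 (by gm) (by decide +kernel), mA.1, mA.2.1,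
      mul_mem mA.1 mA.2.1, mA.2.2.1, mA.2.2.2, mul_mem mA.2.2.1 mA.2.2.2]

end Cfsg.Agent.HL
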