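/-
Groups with the involution centraliser of `L₅(2)`: the possible relations for the third parabolic.
-/
import Cfsg.Agent.HL.G4

set_option autoImplicit false
set_option maxRecDepth 100000
set_option synthInstance.maxSize 4000

namespace Cfsg.Agent.HL

open HJ Subgroup PLoc

variable {G : Type*} [Group G] {a b c z e f h i j k s r : G}

set_option hygiene false in
local notation "ΔH" => gr gH [a, b, c, z, e, f, h, i, j, k, s, r]
set_option hygiene false in
local notation "TT" => clo [a, b, c, z, e, f, h, i, j, k]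
set_option hygiene false in
local notation "AA" => clo [b, c, z, e, f, h]
set_option hygiene false in
local notation "BB" => clo [j, h, z, i, f, c]
set_option hygiene false in
local notation "UU" => clo [a, b, c, z]
set_option hygiene false in
local notation "ΔA" => gr gA₁ [b, c, z, e, f, h]
set_option hygiene false in
local notation "ΔU" => gr gU [a, b, c, z]

theorem nrm_w {Γ' : Type*} [Group Γ'] [Finite Γ'] [Finite G] {xs : List Γ'} {ys : List G} {n0 : Γ'}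
    {n : G} (W : List (List ℕ)) (h1 : xs.map (n0 * · * n0⁻¹) = W.map (ev (atm xs)))
    (h2 : ys.map (n * · * n⁻¹) = W.map (ev (atm ys))) (hl : xs.length = ys.length := by rfl) :
    (n0, n) ∈ normalizer (gr xs ys : Set (Γ' × G)) := norm_clo fun p hp => by
  have := List.mem_map_of_mem (f := Prod.map (n0 * · * n0⁻¹) (n * · * n⁻¹)) hp
  rw [← List.zip_map, h1, h2, List.zip_map'] at this
  obtain ⟨l, -, q⟩ := List.mem_map.mp this
  exact (q ▸ ev_mem_gr hl l : Prod.map _ _ p ∈ gr xs ys)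

theorem fU : ∀ u ∈ clo gU, u * u = 1 ∧ u * e0 * u⁻¹ ≠ e0 * (c0 * z0) ∧
    (u * e0 * u⁻¹ = e0 → r0 * u * r0⁻¹ = u → g0 * u * g0⁻¹ = u → u = 1 ∨ u = b0 * c0 * z0) :=
  enumU.all (by decide +kernel)

theorem fA₁ : ∀ u ∈ WA.map (ev (atm gA₁)), r₁ * u * r₁⁻¹ = u → gt₁ * u * gt₁⁻¹ = u →
    u = 1 ∨ u = b₁ * (c₁ * h₁) ∨ u = e₁ * (f₁ * (z₁ * h₁)) ∨ u = b₁ * (c₁ * (e₁ * (f₁ * z₁))) := by
  decide +kernel

/-- the standard action -/
structure Std (a b c z e f h i j k s r g : G) : Prop extends G4 c z f h i j k g where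
  ga : g * a * g⁻¹ = a
  gb : g * b * g⁻¹ = b
  ge : g * e * g⁻¹ = e
  gs : g * s * g⁻¹ = s
  gr : (g * r) ^ 3 = 1

/-- the twisted action -/
structure Til (a b c z e f h i j k s g : G) : Prop extends G4 c z f h i j k g where
  ga : g * a * g⁻¹ = a * (c * (z * (i * j)))
  gb : g * b * g⁻¹ = b * (c * (z * (f * h)))
  ge : g * e * g⁻¹ = e * (c * z)
  gs : g * s * g⁻¹ = s * (c * z)

theorem rel_of {g x y : G} (g2 : g * g = 1) (q : g * x * g⁻¹ = y) (x2 : x * x = 1) :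
    g * (x * (g * y)) = 1 := by
  rw [← q, ← mul_assoc g (g * x), ← mul_assoc g g, g2, one_mul, ← mul_assoc x, x2, one_mul,
    mul_inv_cancel]

variable (H : HT a b c z e f h i j k s r) {g : G}
include H

theorem HT.sq : a * a = 1 ∧ b * b = 1 ∧ c * c = 1 ∧ e * e = 1 ∧ f * f = 1 ∧ h * h = 1 ∧ i * i = 1 ∧
    j * j = 1 ∧ k * k = 1 ∧ s * s = 1 ∧ r * r = 1 := by
  gens
  and_intros <;> hc

theorem HT.satT (D : Til a b c z e f h i j k s g) :
    Sat (cH.RL ++ cK2.R3) [a, b, c, z, e, f, h, i, j, k, s, r, g] := by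
  gens
  obtain ⟨a2, b2, c2, e2, f2, -, i2, -, -, s2, -⟩ := H.sq
  refine Sat.append (Sat.tr H.fn (xs := gP) (ys := [a, b, c, z, e, f, h, i, j, k, s, r, g]) (S := List.range 12)
    ⟨ma, mb, mc, mz, me, mf, mh, mi, mj, mk, ms, mr, trivial⟩ (by decide +kernel)
    (satP.sub (by decide +kernel))) ?_
  have := D.gk
  simp only [pow_succ, pow_zero, one_mul, mul_assoc] at this
  simp only [Sat, cK2.R3, List.forall_mem_cons]
  simp [atm, D.g2, this, rel_of D.g2 D.ga a2, rel_of D.g2 D.gb b2, rel_of D.g2 D.gc c2,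
    rel_of D.g2 D.ge e2, rel_of D.g2 D.gf f2, rel_of D.g2 D.gi i2, rel_of D.g2 D.gs s2]

theorem HT.satS (D : Std a b c z e f h i j k s r g) :
    Sat cP.RL [a, b, c, z, e, f, h, i, j, k, s, r, g] := by
  gens
  obtain ⟨a2, b2, c2, e2, f2, -, i2, -, -, s2, -⟩ := H.sq
  refine Sat.append (Sat.append (Sat.tr H.fn (xs := gP) (ys := [a, b, c, z, e, f, h, i, j, k, s, r, g]) (S := List.range 12)
    ⟨ma, mb, mc, mz, me, mf, mh, mi, mj, mk, ms, mr, trivial⟩ (by decide +kernel)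
    (satP.sub (by decide +kernel))) ?_) ?_
  · have := D.gk
    simp only [pow_succ, pow_zero, one_mul, mul_assoc] at this
    simp only [Sat, cP.R3, List.forall_mem_cons]
    simp [atm, D.g2, this, rel_of D.g2 D.ga a2, rel_of D.g2 D.gb b2, rel_of D.g2 D.gc c2,
      rel_of D.g2 D.ge e2, rel_of D.g2 D.gf f2, rel_of D.g2 D.gi i2, rel_of D.g2 D.gs s2]
  · have := D.gr
    simp only [pow_succ, pow_zero, one_mul, mul_assoc] at this
    simpa [Sat, cP.R4, atm] using this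

theorem HT.fnA : Fn ΔA ∧ Inj ΔA :=
  have := leE6 (satA₁.zip (H.sat.ren [1, 2, 3, 4, 5, 6] (by decide +kernel)))
  ⟨fn_of_le this cardA₁, inj_of_le this H.cardA.ge⟩

omit H in
theorem mA : (b₁, b) ∈ ΔA ∧ (c₁, c) ∈ ΔA ∧ (z₁, z) ∈ ΔA ∧ (e₁, e) ∈ ΔA ∧ (f₁, f) ∈ ΔA ∧
    (h₁, h) ∈ ΔA := by
  refine ⟨?_, ?_, ?_, ?_, ?_, ?_⟩ <;> exact mem_clo (by simp)

theorem HT.centA {n : G} (q : ∀ x ∈ [b, c, z, e, f, h], n * x = x * n) :
    ∃ l ∈ WA, n = ev (atm [b, c, z, e, f, h]) l := by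
  gens
  simp only [List.forall_mem_cons] at q
  obtain ⟨q1, q2, q3, q4, q5, q6, -⟩ := q
  obtain ⟨x0, m0, m⟩ := H.liftC q3 q2
  have t := @H.inj.eq
  obtain ⟨l, h1, rfl⟩ := mem_code kA_eq (((fC x0 m0).2.2.1 (t (by gm) (by gm) q1)).2.2
    (t (by gm) (by gm) q4) (t (by gm) (by gm) q5) (t (by gm) (by gm) q6))
  exact ⟨l, h1, H.fn.eq m (grA (ev_mem_gr (xs := gA) (ys := [b, c, z, e, f, h]) rfl l)) rfl⟩

theorem HT.trivA {n : G} (q : ((1 : Γ6), n) ∈ normalizer (ΔA : Set (Γ6 × G))) :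
    ∃ l ∈ WA, n = ev (atm [b, c, z, e, f, h]) l := H.centA fun x hx => by
  obtain ⟨x0, -, m⟩ := gr_left gA₁ (mem_clo hx)
  exact comm_of_cj (H.fnA.1.eq (nj q m) m (by simp))

variable [Finite G]

theorem HT.nA : (a₁, a) ∈ normalizer (ΔA : Set (Γ6 × G)) ∧ (i₁, i) ∈ normalizer (ΔA : Set (Γ6 × G)) ∧
    (j₁, j) ∈ normalizer (ΔA : Set (Γ6 × G)) ∧ (k₁, k) ∈ normalizer (ΔA : Set (Γ6 × G)) ∧
    (r₁, r) ∈ normalizer (ΔA : Set (Γ6 × G)) := by
  gens
  refine ⟨nrm_w Va (by decide +kernel) ?_, nrm_w Vi (by decide +kernel) ?_,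
    nrm_w Vj (by decide +kernel) ?_, nrm_w Vk (by decide +kernel) ?_,
    nrm_w Vr (by decide +kernel) ?_⟩ <;>
  simp [Va, Vi, Vj, Vk, Vr, atm] <;> and_intros <;> hc

omit H in
theorem Til.nA (D : Til a b c z e f h i j k s g) : (gt₁, g) ∈ normalizer (ΔA : Set (Γ6 × G)) :=
  nrm_w [[0, 2, 4, 8, 10], [4], [2], [6, 2, 4], [10], [8]] (by decide +kernel)
    (by simp [atm, D.gb, D.gc, D.gz, D.ge, D.gf, D.gh])

theorem HT.exists_g (q : IsConj z c) : ∃ g, Std a b c z e f h i j k s r g ∨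
    Til a b c z e f h i j k s g ∧ ((g * r) ^ 5 = 1 ∨ (g * r) ^ 5 * (e * (f * (z * h))) = 1) := by
  gens
  obtain ⟨g, D, e1, v, e2, e3, e4⟩ := H.exists_g1 q
  obtain ⟨na, -, -, nk, nr⟩ := H.nA
  obtain ⟨bb, bc, bz, be, bf, bh⟩ := mA (b := b) (c := c) (z := z) (e := e) (f := f) (h := h)
  have r2 : r * r = 1 := by hc
  have k1 : ∀ n : ℕ, r * (r * g) ^ n * r⁻¹ = ((r * g) ^ n)⁻¹ ∧ g * (r * g) ^ n * g⁻¹ = ((r * g) ^ n)⁻¹ ∧
      (g * r) ^ n = ((r * g) ^ n)⁻¹ := fun n => by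
    rw [← conj_pow, ← conj_pow, ← inv_pow, mul_inv_rev, inv_eq_of_sq D.g2, inv_eq_of_sq r2,
      ← mul_assoc r, r2, one_mul, mul_assoc, mul_assoc, D.g2, mul_one]
    exact ⟨rfl, rfl, rfl⟩
  have gb : g * b * g⁻¹ = s * v * (g * a * g⁻¹) * (s * v)⁻¹ := by
    rw [← e4, conj_inv, conj_mul, conj_mul, show s * a * s⁻¹ = b by hc]
  refine ⟨g, e1.imp (fun e1 => ?_) fun e1 => ?_⟩
  · replace gb : g * b * g⁻¹ = b := by rw [gb, e1]; rcases e2 with rfl | rfl <;> hc
    have mU : ∀ p ∈ gU.zip [a, b, c, z], p ∈ ΔU := fun _ => mem_clo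
    simp only [List.zip_cons_cons, List.forall_mem_cons] at mU
    have n1 : (g0, g) ∈ normalizer (ΔU : Set (Γ × G)) := nrm_w [[0], [2], [6], [4]]
      (by decide +kernel) (by simp [atm, e1, gb, D.gc, D.gz])
    have n2 := (nrm_of H.fn grU mr (nU (mem_clo (by simp)))).1
    have n3 : ((r0 * g0) ^ 3, (r * g) ^ 3) ∈ normalizer (ΔU : Set (Γ × G)) := by gm
    rw [show (r0 * g0) ^ 3 = 1 by decide +kernel] at n3
    have c1 : ∀ {x0 x}, (x0, x) ∈ ΔU → (r * g) ^ 3 * x = x * (r * g) ^ 3 := fun m =>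
      comm_of_cj (H.fn.eq (grU (nj n3 m)) (grU m) (by simp))
    obtain ⟨u0, m0, m⟩ := H.liftC (c1 mU.2.2.2.1) (c1 mU.2.2.1)
    have m1 := of_kU (((fC u0 m0).2.2.1 (H.inj.eq (by gm) (by gm) (c1 mU.2.1))).2.1
      (H.inj.eq (by gm) (by gm) (c1 mU.1)))
    obtain ⟨f1, f2, f3⟩ := fU u0 m1
    have u2 := inv_eq_of_sq (H.fn.eq (pm_mul m m) pm_one f1)
    rcases e2 with rfl | rfl
    · rw [mul_one] at e3 e4
      have n4 : (gs₁, g) ∈ normalizer (ΔA : Set (Γ6 × G)) := nrm_w [[0], [4], [2], [6], [10], [8]]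
        (by decide +kernel) (by simp [atm, gb, D.gc, D.gz, e3, D.gf, D.gh])
      have n5 : ((r₁ * gs₁) ^ 3, (r * g) ^ 3) ∈ normalizer (ΔA : Set (Γ6 × G)) := by gm
      refine ⟨D, e1, gb, e3, e4, ?_⟩
      rw [(k1 3).2.2, u2]
      rcases f3 (H.inj.eq (by gm) me (H.fnA.1.eq (nj n5 be) be (by decide +kernel)))
        (H.inj.eq (by gm) m ((k1 3).1.trans u2)) (H.inj.eq (grU (nj n1 (mem_of_gr H.fn grU m m1).2))
          m ((k1 3).2.1.trans u2)) with u | u
      · exact H.fn.eq m pm_one u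
      have u1 : (r * g) ^ 3 = b * c * z := H.fn.eq m (by gm) u
      have gi := inv_eq_of_sq D.g2
      have ri := inv_eq_of_sq r2
      have w1 : ∀ w, (r * g)⁻¹ * w * (r * g)⁻¹⁻¹ = g * (r * w * r⁻¹) * g⁻¹ := fun w => by
        rw [inv_inv, mul_inv_rev, gi, ri]; group
      have w2 : g * k * g⁻¹ = k * g * k⁻¹ := by
        have : g * k * g * (k * (g * k)) = 1 := by rw [← D.gk, pow_three]; group
        rw [gi, eq_inv_of_mul_eq_one_left this, mul_inv_rev, mul_inv_rev, gi,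
          inv_eq_of_sq (show k * k = 1 by hc)]
      have w3 : r * g * k * (r * g)⁻¹ = j * (r * g * r⁻¹) * j⁻¹ := by
        rw [cj_mul', w2, ← show r * k * r⁻¹ = j by hc]; group
      have w4 : r * g * k * (r * g)⁻¹ = j * (g * r * g⁻¹) * j⁻¹ * b := by
        have : r * g * k * (r * g)⁻¹ =
          (r * g)⁻¹ * ((r * g)⁻¹ * ((r * g) ^ 3 * k * ((r * g) ^ 3)⁻¹) * (r * g)⁻¹⁻¹) * (r * g)⁻¹⁻¹ := by
          rw [pow_three]; group
        rw [this, u1, w1, w1, show r * (b * c * z * k * (b * c * z)⁻¹) * r⁻¹ = j * z by hc,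
          ← conj_mul (b := g) (a := j), D.gj, D.gz,
          show r * (i * c) * r⁻¹ = i * r * i⁻¹ * b by hc, ← conj_mul (b := g), ← conj_mul (b := g),
          ← conj_mul (b := g), ← conj_inv, D.gi, gb]
      have w5 : r * g * r⁻¹ = g * r * g⁻¹ * (b * z) := by
        rw [← show j⁻¹ * b * j = b * z by hc, ← inv_mul_cancel_left j (r * g * r⁻¹),
          ← inv_mul_cancel_right (j * _) j, ← mul_assoc j⁻¹, mul_assoc j⁻¹, ← w3, w4]
        group
      have w6 : (r * g) ^ 3 = g * (r * (g * (b * z) * g⁻¹) * r⁻¹) * g⁻¹ := by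
        have : (r * g) ^ 3 = r * g * r⁻¹ * (g * r * g⁻¹) := by rw [gi, ri, pow_three]; group
        rw [this, w5, gi, ri]; group
      rw [u1, ← conj_mul (b := g) (a := b), gb, D.gz, show r * (b * c) * r⁻¹ = b * c by hc,
        ← conj_mul, gb, D.gc] at w6
      exact absurd w6 (H.ne (by gm) (by gm) (by decide +kernel))
    · have n4 : (gx₁, g) ∈ normalizer (ΔA : Set (Γ6 × G)) := nrm_w
        [[0], [4], [2], [6, 2, 4], [10], [8]] (by decide +kernel)
        (by simp [atm, gb, D.gc, D.gz, e3, D.gf, D.gh])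
      have n5 : ((r₁ * gx₁) ^ 3, (r * g) ^ 3) ∈ normalizer (ΔA : Set (Γ6 × G)) := by gm
      exact absurd (H.inj.eq (by gm) (by gm) (H.fnA.1.eq (y' := e * (c * z)) (nj n5 be) (by gm)
        (by decide +kernel))) f2
  · replace gb : g * b * g⁻¹ = b * (c * (z * (f * h))) := by
      rw [gb, e1]; rcases e2 with rfl | rfl <;> hc
    rcases e2 with rfl | rfl
    · have n4 : (gy₁, g) ∈ normalizer (ΔA : Set (Γ6 × G)) := nrm_w
        [[0, 2, 4, 8, 10], [4], [2], [6], [10], [8]] (by decide +kernel)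
        (by simp [atm, gb, D.gc, D.gz, e3, D.gf, D.gh])
      have n5 : (gy₁ * r₁ * gy₁ * r₁ * k₁ * a₁ * gy₁ * r₁ * gy₁, g * r * g * r * k * a * g * r * g) ∈
        normalizer (ΔA : Set (Γ6 × G)) := by gm
      exact absurd (H.fnA.1.eq (nj n5 bz) (pm_mul bc bh) (by decide +kernel) ▸ isConj_cj _ z)
        (H.notN (pm_mul mc mh) (by decide +kernel))
    have D' : Til a b c z e f h i j k s g := ⟨D, e1, gb, e3, e4⟩
    have n4 := D'.nA
    have n5 : ((r₁ * gt₁) ^ 5, (r * g) ^ 5) ∈ normalizer (ΔA : Set (Γ6 × G)) := by gm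
    rw [show (r₁ * gt₁) ^ 5 = 1 by decide +kernel] at n5
    obtain ⟨l, m0, u⟩ := H.trivA n5
    have m := ev_mem_gr (xs := gA₁) (ys := [b, c, z, e, f, h]) rfl l
    rw [← u] at m
    have u2 := inv_eq_of_sq (H.eaA (gr_mem m).2).1
    have u3 := (k1 5).2.2.trans u2
    have key : ¬ Le (clo [a, b, c, z, e, f, h, i, j, k, s, r, g]) 21504 := fun t => by
      have := eq_of_le_of_card_ge (clo_sub (gs' := [a, b, c, z, e, f, h, i, j, k, s, r, g]) (by simp))
        (t.2.trans H.card)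
      exact H.ne mc mz (by decide +kernel)
        (D.gz.symm.trans (cj_of_comm ((H.eq g).mp (this ▸ mem_clo (by simp)))))
    have t := @H.fnA.1.eq
    refine ⟨D', ?_⟩
    rcases fA₁ _ (List.mem_map_of_mem m0) (H.fnA.2.eq (nj nr m) m ((k1 5).1.trans u2))
      (H.fnA.2.eq (nj n4 m) m ((k1 5).2.1.trans u2)) with w | w | w | w
    · exact Or.inl (u3.trans (t m pm_one w))
    · refine (key (leK2 ((H.satT D').append ?_))).elim
      have : (g * r) ^ 5 * (b * (c * h)) = 1 := by rw [u3, t (y' := b * (c * h)) m (by gm) w]; hc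
      simp only [pow_succ, pow_zero, one_mul, mul_assoc] at this
      simpa [Sat, cK2.R4, atm] using this
    · exact Or.inr (by rw [u3, t (y' := e * (f * (z * h))) m (by gm) w]; hc)
    · refine (key (leK3 ((H.satT D').append ?_))).elim
      have : (g * r) ^ 5 * (b * (c * (e * (f * z)))) = 1 := by
        rw [u3, t (y' := b * (c * (e * (f * z)))) m (by gm) w]; hc
      simp only [pow_succ, pow_zero, one_mul, mul_assoc] at this
      simpa [Sat, cK3.R4, atm] using this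

end Cfsg.Agent.HL
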