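/-
Groups with the involution centraliser of `L₅(2)`: generation by parabolic subgroups.
-/
import Cfsg.Agent.HL.G5
import Cfsg.Agent.HL.Cent

set_option autoImplicit false
set_option maxRecDepth 100000
set_option synthInstance.maxSize 4000

namespace Cfsg.Agent.HL

open HJ Subgroup PLoc

variable {G : Type*} [Group G] {a b c z e f h i j k s r : G}

set_option hygiene false in
local notation "ΔH" => gr gH [a, b, c, z, e, f, h, i, j, k, s, r]
set_option hygiene false in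
local notation "TT" => clo [a, b, c, z, e, f, h, i, j, k]
set_option hygiene false in
local notation "AA" => clo [b, c, z, e, f, h]
set_option hygiene false in
local notation "BB" => clo [j, h, z, i, f, c]
set_option hygiene false in
local notation "UU" => clo [a, b, c, z]
set_option hygiene false in
local notation "VV" => clo [c * h, z * f * h]
set_option hygiene false in
local notation "ΔA" => gr gA₁ [b, c, z, e, f, h]

/-- a subgroup controlling the fusion of involutions -/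
structure HB (G0 : Subgroup G) (a b c z e f h i j k s r : G) : Prop
    extends HT a b c z e f h i j k s r where
  le : ∀ x, x * z = z * x → x ∈ G0
  cl : ∀ w ∈ [c, h, f], ∃ n ∈ G0, n * z * n⁻¹ = w
  cl' : ∀ w ∈ [f * z, f * b, f * j], ∃ n ∈ G0, n * z * n⁻¹ = w ∨ n * (c * h) * n⁻¹ = w

variable [Finite G] {G0 : Subgroup G} (H : HB G0 a b c z e f h i j k s r)
include H

theorem HB.invol' {x : G} (hx : x ∈ G0) (x2 : x * x = 1) (x1 : x ≠ 1) :
    ∃ n ∈ G0, n * z * n⁻¹ = x ∨ n * (c * h) * n⁻¹ = x := by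
  have l : TT ≤ clo [a, b, c, z, e, f, h, i, j, k, s, r] := clo_sub (by simp)
  obtain ⟨y, y1, y2⟩ := conj_into (H.sylT.of_le (fun x hx => H.le x ((H.eq x).mp (l hx))) le_top) hx x2
  have key : ∀ {w n}, n * z = z * n → y * x * y⁻¹ = n * w * n⁻¹ →
      (∃ n ∈ G0, n * z * n⁻¹ = w ∨ n * (c * h) * n⁻¹ = w) →
      ∃ n ∈ G0, n * z * n⁻¹ = x ∨ n * (c * h) * n⁻¹ = x := fun {w n} q1 q2 ⟨p, q3, q4⟩ =>
    ⟨y⁻¹ * (n * p), mul_mem (inv_mem y1) (mul_mem (H.le n q1) q3), q4.imp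
      (fun q => by rw [cj_mul', cj_mul', q, ← q2]; group)
      fun q => by rw [cj_mul', cj_mul', q, ← q2]; group⟩
  rcases H.invol ((H.eq _).mp (l y2)) (by rw [conj_mul, x2]; simp) with t | t | ⟨w, t, n, q1, q2⟩
  · exact absurd (conj_eq_one_iff.mp t) x1
  · exact key (n := 1) (by simp) (by simpa using t) ⟨1, one_mem _, by simp⟩
  refine key q1 q2 ?_
  have k1 := fun w hw => (H.cl w hw).imp fun n q => And.intro q.1 (Or.intro_left (n * (c * h) * n⁻¹ = w) q.2)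
  simp only [List.mem_cons, List.not_mem_nil, or_false] at t
  rcases t with rfl | rfl | rfl | rfl | rfl | rfl | rfl
  exacts [k1 _ (by simp), k1 _ (by simp), k1 _ (by simp), ⟨1, one_mem _, by simp⟩, H.cl' _ (by simp),
    H.cl' _ (by simp), H.cl' _ (by simp)]

theorem HB.qf : IsConj z f := isConj_iff.mpr ((H.cl f (by simp)).imp fun _ q => q.2)

theorem HB.U {w g : G} (hw : w ∈ G0) (q : IsConj z w) (hg : g * w * g⁻¹ ∈ G0) : g ∈ G0 := by
  gens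
  have key : ∀ {w}, w ∈ G0 → IsConj z w → ∃ n ∈ G0, n * z * n⁻¹ = w := fun hw q => by
    obtain ⟨y, rfl⟩ := isConj_iff.mp q
    obtain ⟨n, h1, t | t⟩ := H.invol' hw (by rw [conj_mul, H.z12.1]; simp) (by simpa using H.z12.2)
    · exact ⟨n, h1, t⟩
    · exact absurd (q.trans (t ▸ isConj_cj n _).symm) (H.notN (pm_mul mc mh) (by decide +kernel))
  obtain ⟨n, h1, rfl⟩ := key hw q
  obtain ⟨p, h2, t⟩ := key hg (q.trans (isConj_cj _ _))
  have := H.le (p⁻¹ * g * n) (comm_of_cj (by rw [cj_mul', cj_mul', ← t]; group))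
  exact (mul_mem_cancel_left (inv_mem h2)).mp ((mul_mem_cancel_right h1).mp this)

theorem HB.se {y : G} (hy : y ∈ centralizer (VV : Set G)) (hy' : y ∉ G0) :
    ∃ D ≤ centralizer (VV : Set G), (∀ t ∈ D, t * t ∈ VV → t ∈ VV) ∧
      ∀ w ∈ [b, f], ∃ d ∈ D, ∃ v ∈ VV, d * z * d⁻¹ = w * v := by
  gens
  obtain ⟨q1, q2⟩ := H.ofF H.qf
  have cV : ∀ {y v}, y ∈ centralizer (VV : Set G) → v ∈ VV → y * v * y⁻¹ = v := fun hy hv =>
    cj_of_comm (hy _ hv).symm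
  have l : VV ≤ G0 ⊓ centralizer (VV : Set G) := clo_le (by
    simp only [List.forall_mem_cons]
    exact ⟨⟨H.le _ (by hc), mem_CV.mpr ⟨rfl, by hc⟩⟩, ⟨H.le _ (by hc), mem_CV.mpr ⟨by hc, rfl⟩⟩, by simp⟩)
  have nV : ∀ {w0 w}, (w0, w) ∈ ΔH → (∀ v ∈ LV, v ≠ w0) → w ∉ VV := fun m t hw => by
    obtain ⟨v0, m0, m1⟩ := H.liftV hw
    exact t v0 m0 (H.inj.eq m1 m rfl)
  have U : ∀ g ∈ centralizer (VV : Set G), ∀ x ∈ G0 ⊓ centralizer (VV : Set G), x * x ∈ VV →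
      x ∉ VV → g * x * g⁻¹ ∈ G0 → g ∈ G0 := fun g hg x hx x2 x1 t => by
    obtain ⟨v0, m0, m1⟩ := H.liftV x2
    obtain ⟨n, h1, h2⟩ := H.intoJ (isPGroup_zpowers (x := x) (k := 2) (by
      rw [show 2 ^ 2 = 2 + 2 by rfl, pow_add, pow_two]
      exact H.fn.eq (pm_mul m1 m1) pm_one ((by decide +kernel : ∀ v ∈ LV, v * v = 1) _ m0))) (zpowers_le.mpr hx.2)
    obtain ⟨y0, m2, m3⟩ := h2 x (mem_zpowers x)
    have m4 := pm_mul m3 m3
    rw [conj_mul, cV h1 x2] at m4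
    obtain ⟨w0, m5, t1⟩ := ((fJ y0 m2).2.2.1 (H.inj.eq m4 m1 rfl ▸ m0)).resolve_left fun t1 => x1 (by
      have := H.ofV m3 t1
      rwa [← cV (inv_mem h1) this, ← cj_mul', inv_mul_cancel, one_mul, inv_one, mul_one] at this)
    obtain ⟨w, -, m6⟩ := H.down (x0 := w0) (by
      revert w0
      simp only [List.forall_mem_cons]
      exact ⟨fun _ => one_mem _, fun _ => (gr_mem (pm_mul mc mh)).1,
        fun _ => (gr_mem (pm_mul (pm_mul mz mf) mh)).1,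
        fun _ => (gr_mem (pm_mul (pm_mul mc mh) (pm_mul (pm_mul mz mf) mh))).1, by simp⟩)
    have m7 := H.ofV m6 m5
    have t2 := H.ofR H.qf q1 q2 (pm_mul m3 m6) t1
    rw [← cV h1 m7, conj_mul] at t2
    refine H.U (mul_mem hx.1 (l m7).1) (t2.trans (isConj_cj _ _).symm) ?_
    rw [← conj_mul, cV hg m7]
    exact mul_mem t (l m7).1
  obtain ⟨D, h1, h2, h3⟩ := se_mod l inf_le_right (fun y hy v hv => (cV hy hv).symm ▸ hv) (z := z)
    ⟨H.le z rfl, mem_CV.mpr ⟨by hc, by hc⟩⟩ (H.z12.1 ▸ one_mem _) (nV mz fun v hv => (fV v hv).2.2.1)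
    (fun g hg x hx x2 x1 t => ⟨U g hg x hx x2 x1 t.1, hg⟩) hy fun t => hy' t.1
  refine ⟨D, h1.trans inf_le_right, h2, ?_⟩
  simp only [List.forall_mem_cons]
  exact ⟨h3 b ⟨H.le _ (by hc), mem_CV.mpr ⟨by hc, by hc⟩⟩ ((show b * b = 1 by hc) ▸ one_mem _)
      (nV mb fun v hv => (fV v hv).2.2.2.1), h3 f ⟨H.le _ (by hc), mem_CV.mpr ⟨by hc, by hc⟩⟩
      ((show f * f = 1 by hc) ▸ one_mem _) (nV mf fun v hv => (fV v hv).2.2.2.2), by simp⟩

theorem HB.cvS (nb : ¬ IsConj z (f * b)) : centralizer (VV : Set G) ≤ G0 := fun y hy => by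
  gens
  by_contra hy'
  obtain ⟨D, h1, -, h3⟩ := H.se hy hy'
  obtain ⟨d, h4, v, h5, t⟩ := h3 b (by simp)
  obtain ⟨v0, m0, m⟩ := H.liftV h5
  rcases (fV v0 m0).1 with t1 | t1
  · exact nb ((t ▸ isConj_cj d z).trans (H.isC (pm_mul mb m) (by gm) kb_eq t1).symm)
  · refine nb (IsConj.trans ?_ (H.isC (x := b * v * (z * f * h)) (by gm) (by gm) kb_eq t1).symm)
    rw [← t, ← cj_of_comm (mem_CV.mp (h1 h4)).2, conj_mul]
    exact (H.qf.trans (H.isC (by gm) mf kf_eq (by decide +kernel))).trans (isConj_cj _ _)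

theorem HB.cvT {g : G} (D : Til a b c z e f h i j k s g) : centralizer (VV : Set G) ≤ G0 :=
  fun y hy => by
  gens
  by_contra hy'
  obtain ⟨q1, q2⟩ := H.ofF H.qf
  obtain ⟨E, h1, h2, h3⟩ := H.se hy hy'
  obtain ⟨na, ni, nj', -, nr⟩ := H.nA
  have ng := D.nA
  obtain ⟨bb, bc, bz, be, bf, bh⟩ := mA (b := b) (c := c) (z := z) (e := e) (f := f) (h := h)
  have key : ∀ {m0 m w0 w}, (m0, m) ∈ normalizer (ΔA : Set (Γ6 × G)) → (w0, w) ∈ ΔA → w ∈ [b, f] →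
      m0 * z₁ * m0⁻¹ = w0 ∧ m0 * (c₁ * h₁) * m0⁻¹ = c₁ * h₁ ∧
        m0 * (z₁ * f₁ * h₁) * m0⁻¹ = z₁ * f₁ * h₁ →
      ∃ d ∈ E, ∃ d0 ∈ [1, i₁, j₁, i₁ * j₁].map (m0 * ·⁻¹), (d0, d) ∈ normalizer (ΔA : Set (Γ6 × G)) :=
    fun {m0 m w0 w} n1 n2 n3 ⟨t1, t2, t3⟩ => by
      obtain ⟨d, h4, v, h5, t⟩ := h3 w n3
      have c1 : m⁻¹ ∈ centralizer (VV : Set G) := inv_mem (mem_CV.mpr
        ⟨comm_of_cj (H.fnA.1.eq (nj n1 (pm_mul bc bh)) (by gm) t2),
          comm_of_cj (H.fnA.1.eq (nj n1 (pm_mul (pm_mul bz bf) bh)) (by gm) t3)⟩)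
      have c2 := mul_mem c1 (h1 h4)
      have c3 : m⁻¹ * d * z * (m⁻¹ * d)⁻¹ = z * v := by
        rw [cj_mul', t, ← conj_mul, cj_of_comm (c1 v h5).symm, ← H.fnA.1.eq (nj n1 bz) n2 t1]; group
      obtain ⟨v0, m1, m2⟩ := H.liftV h5
      obtain ⟨x0, m3, m4⟩ := H.liftJ (comm_of_cj (by
        rw [c3, H.fn.eq m2 pm_one ((fV v0 m1).2.1.resolve_right fun t4 => ?_), mul_one]
        have := H.ofR H.qf q1 q2 (x := z * v * (c * h)) (by gm) t4
        rw [← c3, ← cj_of_comm (mem_CV.mp c2).1, conj_mul] at this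
        exact H.notN (x := z * (c * h)) (by gm) (by decide +kernel)
          (this.trans (isConj_cj _ _).symm))) c2
      have k1 : ∀ {u0 u1 u}, (u0, u) ∈ ΔH → (u1, u) ∈ normalizer (ΔA : Set (Γ6 × G)) →
          (u0 * x0).c ∈ kA → (m0 * u1⁻¹, d) ∈ normalizer (ΔA : Set (Γ6 × G)) := fun {u0 u1 u} s1 s2 s3 => by
        have s4 := (mem_of_gr H.fn grA (pm_mul s1 m4) (of_kA s3)).1
        have s5 : ((1 : Γ6), u * (m⁻¹ * d)) ∈ normalizer (ΔA : Set (Γ6 × G)) :=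
          mem_normalizer_of_conj_mem fun p hp => by
            show (1 * p.1 * 1⁻¹, u * (m⁻¹ * d) * p.2 * (u * (m⁻¹ * d))⁻¹) ∈ _
            rwa [cj_of_comm ((H.eaA s4).2 _ (gr_mem hp).2), one_mul, inv_one, mul_one]
        simpa [mul_assoc] using pm_mul (pm_mul n1 (pm_inv s2)) s5
      obtain ⟨u0, s1, s2⟩ := (fJ x0 m3).2.2.2.2
      simp only [List.mem_cons, List.not_mem_nil, or_false] at s1
      rcases s1 with rfl | rfl | rfl | rfl
      exacts [⟨d, h4, _, List.mem_map_of_mem (by simp), k1 pm_one pm_one s2⟩,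
        ⟨d, h4, _, List.mem_map_of_mem (by simp), k1 mi ni s2⟩,
        ⟨d, h4, _, List.mem_map_of_mem (by simp), k1 mj nj' s2⟩,
        ⟨d, h4, _, List.mem_map_of_mem (by simp), k1 (pm_mul mi mj) (pm_mul ni nj') s2⟩]
  obtain ⟨d1, e1, d1', e2, e3⟩ := key (m0 := r₁ * i₁ * gt₁ * r₁ * i₁ * gt₁ * r₁ * gt₁ * r₁)
    (by gm) bf (by simp) (by decide +kernel)
  obtain ⟨d2, e4, d2', e5, e6⟩ := key (m0 := a₁ * r₁ * gt₁ * a₁ * r₁) (by gm) bb (by simp)
    (by decide +kernel)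
  obtain ⟨d0, s1, s2, x0, s3, s4⟩ := fT₁ _ e2 _ e5
  obtain ⟨d, s5, s6⟩ : ∃ d ∈ E, (d0, d) ∈ normalizer (ΔA : Set (Γ6 × G)) := by
    simp only [List.mem_cons, List.not_mem_nil, or_false] at s1
    rcases s1 with rfl | rfl | rfl | rfl
    exacts [⟨_, e4, e6⟩, ⟨_, mul_mem e1 e4, by gm⟩, ⟨_, mul_mem e1 (inv_mem e4), by gm⟩,
      ⟨_, mul_mem (mul_mem (mul_mem e1 e4) e1) (inv_mem e4), by gm⟩]
  obtain ⟨l, -, u⟩ := H.trivA (s2 ▸ pm_mul s6 s6)
  have s7 := h2 d s5 (h2 _ (mul_mem s5 s5) ((H.eaA (u ▸ ev_mem_clo _ l)).1 ▸ one_mem _))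
  obtain ⟨x, s8, m⟩ := gr_right [b, c, z, e, f, h] (mem_clo s3)
  refine s4 (H.fnA.2.eq (nj s6 m) m (cj_of_comm ((H.eaA (clo_le ?_ s7)).2 x s8)))
  simp only [List.forall_mem_cons]
  exact ⟨(gr_mem (pm_mul bc bh)).2, (gr_mem (pm_mul (pm_mul bz bf) bh)).2, by simp⟩

theorem HB.top (hV : centralizer (VV : Set G) ≤ G0) (x : G) : x ∈ G0 := by
  gens
  have cT : ∀ y, y * (c * h) = c * h * y → y ∈ G0 := fun y hy => by
    rcases H.normV H.qf y (mem_centralizer_singleton_iff.mpr hy) with t | t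
    · exact hV (mem_CV.mpr ⟨hy, comm_of_cj t⟩)
    · refine (mul_mem_cancel_left (H.le (a * k) (by hc))).mp (hV (mem_CV.mpr ⟨comm_of_cj ?_, comm_of_cj ?_⟩))
      · rw [cj_mul', cj_of_comm hy]; hc
      · rw [cj_mul', t]; hc
  refine H.U (H.le z rfl) (IsConj.refl _) ?_
  rcases dih (mem_top (x * z * x⁻¹)) (mem_top (c * h)) (by rw [conj_mul, H.z12.1]; simp) (by hc) with
    ⟨u, -, -, t⟩ | ⟨w, -, w1, w2, w3, w4, -⟩
  · exact absurd (t ▸ (isConj_cj x z).trans (isConj_cj u _)) (H.notN (pm_mul mc mh) (by decide +kernel))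
  obtain ⟨n, h1, rfl | rfl⟩ := H.invol' (cT w w4) w2 w1
  · exact (mul_mem_cancel_left (inv_mem h1)).mp ((mul_mem_cancel_right h1).mp (H.le _ (comm_cj' w3.symm)))
  · exact (mul_mem_cancel_left (inv_mem h1)).mp ((mul_mem_cancel_right h1).mp (cT _ (comm_cj' w3.symm)))

end Cfsg.Agent.HL
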