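/-
Groups with the involution centraliser of `L₅(2)`: the case of a normal subgroup of order 16, and
the reduction to presentations.
-/
import Cfsg.Agent.HL.Top

set_option autoImplicit false
set_option maxRecDepth 100000
set_option synthInstance.maxSize 4000

namespace Cfsg.Agent.HL

open HJ Subgroup PLoc

variable {G : Type*} [Group G] {a b c z e f h i j k s r : G}

set_option hygiene false in
local notation "ΔH" => gr gH [a, b, c, z, e, f, h, i, j, k, s, r]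
set_option hygiene false in
local notation "TT" => clo [a, b, c, z, e, f, h, i, j, k]
set_option hygiene false in
local notation "AA" => clo [b, c, z, e, f, h]
set_option hygiene false in
local notation "BB" => clo [j, h, z, i, f, c]
set_option hygiene false in
local notation "UU" => clo [a, b, c, z]
set_option hygiene false in
local notation "PP" => clo [a, b, c, z, e, f, h, i, j, k, s, r, g]

theorem dih_par {x y : G} (x2 : x * x = 1) (y2 : y * y = 1) (n : ℕ) :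
    IsConj x (x * (x * y) ^ n) ∨ IsConj x (y * (x * y) ^ n) := by
  have e1 : ∀ m : ℕ, IsConj x (x * (x * y) ^ (2 * m)) := fun m => isConj_iff.mpr ⟨((x * y) ^ m)⁻¹, by
    have : x * (x * y) ^ m * x⁻¹ = ((x * y) ^ m)⁻¹ := by
      rw [← conj_pow, ← inv_pow, mul_inv_rev, inv_eq_of_sq x2, inv_eq_of_sq y2, ← mul_assoc, x2,
        one_mul]
    rw [inv_inv, ← this, two_mul, pow_add]; group⟩
  obtain ⟨m, rfl | rfl⟩ := Nat.even_or_odd' n
  · exact Or.inl (e1 m)
  · refine Or.inr (by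
      rw [show y * (x * y) ^ (2 * m + 1) = x * (x * y) ^ (2 * (m + 1)) by
        rw [mul_add, mul_one, pow_succ' _ (2 * m + 1), ← mul_assoc, ← mul_assoc, x2, one_mul]]
      exact e1 _)

theorem mem_cj' {K : Subgroup G} {n x : G} (h1 : n ∈ K) (h2 : n⁻¹ * x * n ∈ K) : x ∈ K :=
  (mul_mem_cancel_left (inv_mem h1)).mp ((mul_mem_cancel_right h1).mp h2)

variable (H : HT a b c z e f h i j k s r) {g : G}
include H

theorem HT.leP {x : G} (q : x * z = z * x) : x ∈ PP := clo_sub (by simp) ((H.eq x).mpr q)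

variable [Finite G]

theorem HT.caseI (D : Std a b c z e f h i j k s r g) (nh : ¬ IsConj z h) :
    (∀ x, x ∈ PP) ∧ ¬ IsSimpleGroup G := by
  gens
  have mg : g ∈ PP := mem_clo (by simp)
  have mU : a ∈ UU ∧ b ∈ UU ∧ c ∈ UU ∧ z ∈ UU := by and_intros <;> exact mem_clo (by simp)
  have lU : ∀ {u}, u ∈ UU → ∃ u0 ∈ clo gU, (u0, u) ∈ ΔH := fun hu =>
    (gr_left gU hu).imp fun _ m => ⟨m.1, grU m.2⟩
  have nH : ∀ {n}, n * z = z * n → n ∈ normalizer (UU : Set G) := fun q =>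
    (H.lift q).elim fun _ m => (nrm_of H.fn grU m.2 (nU m.1)).2
  have h1 : ∀ {x}, x * z = z * x → IsConj z x → x ∈ UU := fun q1 q2 => by
    rcases (H.zt q1 q2).imp_right (·.resolve_right nh) with rfl | ⟨n, q, rfl⟩
    exacts [mU.2.2.2, conj_mem_of_mem_normalizer (nH q) mU.2.2.1]
  have h2 : PP ≤ normalizer (UU : Set G) := clo_le (by
    have : g ∈ normalizer (UU : Set G) := norm_clo (by simp [D.ga, D.gb, D.gc, D.gz, mU])
    simp [nH (H.cz ma), nH (H.cz mb), nH (H.cz mc), nH (H.cz mz), nH (H.cz me), nH (H.cz mf),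
      nH (H.cz mh), nH (H.cz mi), nH (H.cz mj), nH (H.cz mk), nH (H.cz ms), nH (H.cz mr), this])
  have h3 : ∀ {u}, u ∈ UU → u ≠ 1 → ∃ p ∈ PP, p * z * p⁻¹ = u := fun hu u1 => by
    obtain ⟨u0, m0, m⟩ := lU hu
    rcases (fU2 u0 m0).2.2.1 with t | t | t
    · exact absurd (H.fn.eq m pm_one t) u1
    · exact ⟨1, one_mem _, by simpa using H.fn.eq mz m t.symm⟩
    · obtain ⟨n, q, rfl⟩ := H.conj m mc kc_eq t
      exact ⟨n * g, mul_mem (H.leP q) mg, by rw [cj_mul', D.gz]⟩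
  have h4 : ∀ {x}, x * z * x⁻¹ ∈ UU → x ∈ PP := fun {x} q => by
    obtain ⟨p, q1, q2⟩ := h3 q (by simpa using H.z12.2)
    exact (mul_mem_cancel_left (inv_mem q1)).mp (H.leP (comm_of_cj (by rw [cj_mul', ← q2]; group)))
  have lT : ∀ {x}, x ∈ TT → x * z = z * x := fun q => (H.eq _).mp (clo_sub (by simp) q)
  have h5 : ∀ {x}, x * z * x⁻¹ ∈ PP → x ∈ PP := fun {x} q => by
    obtain ⟨p, q1, q2⟩ := conj_into (H.sylT.of_le (clo_sub (by simp)) le_top) q
      (by rw [conj_mul, H.z12.1]; simp)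
    rw [← cj_mul'] at q2
    exact (mul_mem_cancel_left q1).mp (h4 (h1 (lT q2) (isConj_cj _ _)))
  have h6 : ∀ {w0 w}, (w0, w) ∈ ΔH → w0 ∈ [h0, c0 * h0] → ∀ x, x * w = w * x → x * z = z * x :=
    fun {w0 w} m m0 => by
      have k0 : ∀ {y0 y}, (y0, y) ∈ ΔH → y0 ∈ [b0, c0, z0] → y ∈ centralizer {w} := fun m1 m2 =>
        mem_centralizer_singleton_iff.mpr (H.fn.eq (by gm) (by gm)
          ((by decide +kernel : ∀ w ∈ [h0, c0 * h0], ∀ y ∈ [b0, c0, z0], y * w = w * y) _ m0 _ m2))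
      have k1 : ∀ x ∈ PP, x * w = w * x → x * z = z * x := fun x q1 q2 => by
        obtain ⟨u0, m1, m2⟩ := lU (conj_mem_of_mem_normalizer (h2 q1) mU.1)
        have t1 : x * a * x⁻¹ * w * (x * a * x⁻¹)⁻¹ * w⁻¹ = x * z * x⁻¹ := by
          rw [← H.fn.eq (y := a * w * a⁻¹ * w⁻¹) (by gm) mz ((by decide +kernel :
            ∀ w ∈ [h0, c0 * h0], a0 * w * a0⁻¹ * w⁻¹ = z0) _ m0), ← conj_mul, ← conj_mul, ← conj_mul,
            ← conj_inv, ← conj_inv, cj_of_comm q2]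
        rcases (fU2 u0 m1).1 w0 m0 with t | t
        · exact absurd (conj_eq_one_iff.mp (t1.symm.trans (H.fn.eq (by gm) pm_one t))) H.z12.2
        · exact comm_of_cj (t1.symm.trans (H.fn.eq (by gm) mz t))
      obtain ⟨S, s1, s2⟩ := exists_isSylowOf_ge (isPGroup_zpowers (x := z) (p := 2) (k := 1)
        (by rw [pow_one, pow_two, H.z12.1])) (zpowers_le.mpr (k0 mz (by simp)))
      obtain ⟨n, -, s3⟩ := H.sylT.exists_cj_le s1.isP le_top
      have s4 := h4 (h1 (lT (s3 (conj_mem_cj.mpr (s2 (mem_zpowers z))))) (isConj_cj _ _))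
      intro x hx
      refine comm_of_cj (or_self_iff.mp (Or.imp_right (·.trans (mul_one z))
        (zstar_mod (one_mem _) (by simp) (one_mul 1) H.z12.1 H.z12.2 H.z12.2 s1
          (s2 (mem_zpowers z)) (one_mem _) (fun x q1 q2 => Or.inl (cj_of_comm (k1 x (h5 ?_)
            (mem_centralizer_singleton_iff.mp q1)))) (k0 mz (by simp)) (k0 mc (by simp)) H.z12.1
          (by hc) (fun N l n1 n2 v hv x q1 q2 => ?_) x (mem_centralizer_singleton_iff.mpr hx))))
      · refine mem_cj' (inv_mem s4) ?_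
        rw [inv_inv]
        exact H.leP (lT (s3 (conj_mem_cj.mpr q2)))
      obtain ⟨p, p1, rfl⟩ : ∃ p ∈ PP, p * z * p⁻¹ = v := by
        simp only [List.mem_cons, List.not_mem_nil, or_false] at hv
        rcases hv with rfl | rfl | rfl
        exacts [h3 mU.2.2.2 H.z12.2, h3 mU.2.2.1 (H.ne mc pm_one (by decide +kernel)),
          h3 (mul_mem mU.2.2.2 mU.2.2.1) (H.ne (by gm) pm_one (by decide +kernel))]
      have q3 := k1 x (mem_cj' p1 (H.leP (comm_cj' q2))) (mem_centralizer_singleton_iff.mp (l q1))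
      have q4 : ∀ {y}, y ∈ UU → y ∈ centralizer {w} → x * y = y * x := fun {y} t1 t2 => by
        obtain ⟨u0, m1, m2⟩ := lU (mul_mem (conj_mem_of_mem_normalizer (nH q3) t1) (inv_mem t1))
        have := n2 (x * y * x⁻¹ * y⁻¹) (by simpa [mul_assoc] using mul_mem q1 (n1 y t2 _ (inv_mem q1))) (H.fn.eq (pm_mul m2 m2) pm_one (fU2 u0 m1).2.1)
        rwa [or_self, mul_inv_eq_one, mul_inv_eq_iff_eq_mul] at this
      obtain ⟨x0, m1, m2⟩ := H.liftC q3 (q4 mU.2.2.1 (k0 mc (by simp)))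
      exact ⟨2, H.fn.eq (pm_pow m2) pm_one ((fC x0 m1).2.2.1
        (H.inj.eq (by gm) (by gm) (q4 mU.2.1 (k0 mb (by simp))))).1⟩
  have h7 : ∀ x, x ∈ PP := fun x => h5 (by
    have x2 : x * z * x⁻¹ * (x * z * x⁻¹) = 1 := by rw [conj_mul, H.z12.1]; simp
    rcases dih (mem_top _) (mem_top h) x2 (by hc) with ⟨u, -, -, t⟩ | ⟨w, -, w1, w2, w3, w4, n, w5⟩
    · exact absurd (t ▸ (isConj_cj x z).trans (isConj_cj u _)) nh
    have w6 := h6 mh (by simp) w w4
    rcases dih_par x2 (show h * h = 1 by hc) n with t | t <;> rw [← w5] at t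
    · have t1 : x⁻¹ * (x * z * x⁻¹ * w) * x ∈ UU := h1 (comm_cj' (by rw [mul_assoc, w3]))
        (((isConj_cj x z).trans t).trans (by simpa using isConj_cj x⁻¹ _))
      rw [show x⁻¹ * (x * z * x⁻¹ * w) * x = z * (x⁻¹ * w * x⁻¹⁻¹) by group,
        mul_mem_cancel_left mU.2.2.2] at t1
      obtain ⟨p, -, t2⟩ := h3 t1 (mt conj_eq_one_iff.mp w1)
      obtain ⟨p, p1, rfl⟩ := h3 (h1 w6 ((t2 ▸ isConj_cj p z).trans (isConj_cj _ _).symm)) w1
      exact mem_cj' p1 (H.leP (comm_cj' w3.symm))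
    · obtain ⟨u0, m0, m⟩ := lU (h1 (Commute.mul_left (H.cz mh) w6).eq ((isConj_cj x z).trans t))
      have m1 := pm_mul mh m
      rw [← mul_assoc h, show h * h = 1 by hc, one_mul] at m1
      rcases (fU2 u0 m0).2.2.2 (H.inj.eq (pm_mul m mh) (pm_mul mh m) (by rw [mul_assoc, w4])) with t | t
      · obtain ⟨p, p1, rfl⟩ := H.conj m1 mh kh_eq t
        exact mem_cj' (H.leP p1) (H.leP (h6 mh (by simp) _ (comm_cj' w3.symm)))
      · obtain ⟨p, p1, rfl⟩ := H.conj m1 (pm_mul mc mh) kt_eq t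
        exact mem_cj' (H.leP p1) (H.leP (h6 (pm_mul mc mh) (by simp) _ (comm_cj' w3.symm))))
  refine ⟨h7, fun _ => ?_⟩
  rcases (normal_of_forall_mem_normalizer fun x => h2 (h7 x)).eq_bot_or_eq_top with t | t
  · exact H.z12.2 (mem_bot.mp (t ▸ mU.2.2.2))
  · obtain ⟨u0, m0, m⟩ := lU (t ▸ mem_top (a * h))
    exact H.ne (pm_mul (pm_mul ma mh) (pm_mul ma mh)) pm_one (by decide +kernel)
      (H.fn.eq (pm_mul m m) pm_one (fU2 u0 m0).2.1)

theorem HT.word (D : Til a b c z e f h i j k s g) : ∃ n ∈ PP, n * z * n⁻¹ = h := by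
  obtain ⟨-, -, -, nk, nr⟩ := H.nA
  have ng := D.nA
  obtain ⟨-, -, bz, -, -, bh⟩ := mA (b := b) (c := c) (z := z) (e := e) (f := f) (h := h)
  obtain ⟨m1, m2, m3⟩ : g ∈ PP ∧ r ∈ PP ∧ k ∈ PP := by and_intros <;> exact mem_clo (by simp)
  exact ⟨g * r * g * r * k * g * r * k * g, by repeat' first | assumption | apply mul_mem, H.fnA.1.eq
    (nj (n0 := gt₁ * r₁ * gt₁ * r₁ * k₁ * gt₁ * r₁ * k₁ * gt₁) (by gm) bz) bh (by decide +kernel)⟩

theorem HT.fb (D : Std a b c z e f h i j k s r g ∨ Til a b c z e f h i j k s g) {G0 : Subgroup G}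
    (l : ∀ x, x * z = z * x → x ∈ G0) (mg : g ∈ G0) :
    ∃ n ∈ G0, n * z * n⁻¹ = f * b ∨ n * (c * h) * n⁻¹ = f * b := by
  gens
  rcases D with D | D
  · refine ⟨g * r, mul_mem mg (l r (H.cz mr)), Or.inr ?_⟩
    rw [cj_mul', show r * (c * h) * r⁻¹ = h * b by hc, ← conj_mul, D.gh, D.gb]
  · refine ⟨k * a * g * r * g, mul_mem (mul_mem (mul_mem (l _ (by hc)) mg) (l r (H.cz mr))) mg,
      Or.inl ?_⟩
    rw [cj_mul', D.gz, cj_mul', show r * c * r⁻¹ = b by hc, cj_mul', D.gb]; hc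

theorem HT.caseII {y : G} (D : Std a b c z e f h i j k s r g ∨ Til a b c z e f h i j k s g)
    (D' : Std k j h z i f c e b a r s y ∨ Til k j h z i f c e b a r y) {G0 : Subgroup G}
    (l : ∀ x, x * z = z * x → x ∈ G0) (mg : g ∈ G0) (my : y ∈ G0) (x : G) : x ∈ G0 := by
  gens
  have D1 := D.elim (·.toG4) (·.toG4)
  have D2 := D'.elim (·.toG4) (·.toG4)
  have B : HB G0 a b c z e f h i j k s r := ⟨H, l, by
    simp only [List.forall_mem_cons]
    exact ⟨⟨g, mg, D1.gz⟩, ⟨y, my, D2.gz⟩, ⟨g * y, mul_mem mg my, by rw [cj_mul', D2.gz, D1.gh]⟩,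
      by simp⟩, by
    simp only [List.forall_mem_cons]
    exact ⟨⟨g, mg, Or.inr (by rw [← conj_mul, D1.gc, D1.gh]; hc)⟩, H.fb D l mg,
      (show h * c = c * h by hc) ▸ H.flip.fb D' l my, by simp⟩⟩
  refine B.top (D.elim (fun D => B.cvS fun q => ?_) B.cvT) x
  refine H.notN (pm_mul mc mh) (by decide +kernel) (q.trans (isConj_iff.mpr ⟨g * r, ?_⟩).symm)
  rw [cj_mul', show r * (c * h) * r⁻¹ = h * b by hc, ← conj_mul, D.gh, D.gb]

end Cfsg.Agent.HL
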