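/-
Groups with the involution centraliser of `L₅(2)`: the presentations of `M₂₄` and `He`.
-/
import Cfsg.Agent.HJ.J3D
import Cfsg.Agent.Spor.HLt.Main
import Cfsg.Agent.Spor.HLn1.Main
import Cfsg.Agent.Spor.HLn2.Main
import Cfsg.Agent.Spor.HLm.Main
import Cfsg.Agent.Spor.HLh.Main
import Cfsg.Agent.Spor.HeSimple
import Cfsg.Agent.Gol.Simp

set_option autoImplicit false
set_option maxRecDepth 100000

namespace Cfsg.Agent.HL

open Subgroup _root_.Cfsg.Agent.Spor

theorem boundM : Bound 13 13 HLm.RL (1771 * (135 * 1024)) :=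
  HLm.cert.bound (HLn1.cert.bound HLt.cert.bound_nil (H := [([], 60, false), ([], 60, false), ([], 60, false), ([], 60, false), ([], 60, false), ([], 60, false), ([], 60, false), ([], 60, false), ([], 60, false), ([], 60, false), ([], 0, true), ([], 1, true), ([], 2, true), ([], 3, true), ([], 4, true), ([], 5, true), ([], 6, true), ([], 7, true), ([], 8, true), ([], 9, true), ([], 10, true), ([], 11, true), ([], 12, true), ([], 13, true), ([], 14, true), ([], 15, true), ([], 16, true), ([], 17, true), ([], 18, true), ([], 19, true), ([], 20, true), ([], 21, true), ([], 22, true), ([], 23, true), ([], 24, true), ([], 25, true), ([], 26, true), ([], 27, true), ([], 28, true), ([], 29, true), ([], 30, true), ([], 31, true), ([], 32, true), ([], 33, true), ([], 34, true), ([], 35, true), ([], 36, true), ([], 37, true), ([], 38, true), ([], 39, true), ([], 40, true), ([], 41, true), ([], 42, true), ([], 43, true), ([], 44, true)]) (by decide +kernel))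
    (H := [([], 69, false), ([], 69, false), ([], 69, false), ([], 69, false), ([], 69, false), ([], 69, false), ([], 69, false), ([], 69, false), ([], 69, false), ([], 69, false), ([], 69, false), ([], 69, false), ([], 0, true), ([], 1, true), ([], 2, true), ([], 3, true), ([], 4, true), ([], 5, true), ([], 6, true), ([], 7, true), ([], 8, true), ([], 9, true), ([], 10, true), ([], 11, true), ([], 12, true), ([], 13, true), ([], 14, true), ([], 15, true), ([], 16, true), ([], 17, true), ([], 18, true), ([], 19, true), ([], 20, true), ([], 21, true), ([], 22, true), ([], 23, true), ([], 24, true), ([], 25, true), ([], 26, true), ([], 27, true), ([], 28, true), ([], 29, true), ([], 30, true), ([], 31, true), ([], 32, true), ([], 33, true), ([], 34, true), ([], 35, true), ([], 36, true), ([], 37, true), ([], 38, true), ([], 39, true), ([], 40, true), ([], 41, true), ([], 42, true), ([], 43, true), ([], 44, true), ([], 52, true), ([], 53, true), ([], 54, true), ([], 55, true), ([], 56, true), ([], 57, true), ([], 58, true), ([],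 60, true), ([], 61, true), ([], 62, true), ([], 63, true), ([], 64, true), ([], 65, true), ([], 66, true), ([], 68, true)]) (by decide +kernel)

theorem boundHe : Bound 13 13 HLh.RL (29155 * (135 * 1024)) :=
  HLh.cert.bound (HLn2.cert.bound HLt.cert.bound_nil (H := [([], 60, false), ([], 60, false), ([], 60, false), ([], 60, false), ([], 60, false), ([], 60, false), ([], 60, false), ([], 60, false), ([], 60, false), ([], 60, false), ([], 0, true), ([], 1, true), ([], 2, true), ([], 3, true), ([], 4, true), ([], 5, true), ([], 6, true), ([], 7, true), ([], 8, true), ([], 9, true), ([], 10, true), ([], 11, true), ([], 12, true), ([], 13, true), ([], 14, true), ([], 15, true), ([], 16, true), ([], 17, true), ([], 18, true), ([], 19, true), ([], 20, true), ([], 21, true), ([], 22, true), ([], 23, true), ([], 24, true), ([], 25, true), ([], 26, true), ([], 27, true), ([], 28, true), ([], 29, true), ([], 30, true), ([], 31, true), ([], 32, true), ([], 33, true), ([], 34, true), ([], 35, true), ([], 36, true), ([], 37, true), ([],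 38, true), ([], 39, true), ([], 40, true), ([], 41, true), ([], 42, true), ([], 43, true), ([], 44, true)]) (by decide +kernel))
    (H := [([], 69, false), ([], 69, false), ([], 69, false), ([], 69, false), ([], 69, false), ([], 69, false), ([], 69, false), ([], 69, false), ([], 69, false), ([], 69, false), ([], 69, false), ([], 69, false), ([], 0, true), ([], 1, true), ([], 2, true), ([], 3, true), ([], 4, true), ([], 5, true), ([], 6, true), ([], 7, true), ([], 8, true), ([], 9, true), ([], 10, true), ([], 11, true), ([], 12, true), ([], 13, true), ([], 14, true), ([], 15, true), ([], 16, true), ([], 17, true), ([], 18, true), ([], 19, true), ([], 20, true), ([], 21, true), ([], 22, true), ([], 23, true), ([], 24, true), ([], 25, true), ([], 26, true), ([], 27, true), ([], 28, true), ([], 29, true), ([], 30, true), ([], 31, true), ([], 32, true), ([], 33, true), ([], 34, true), ([], 35, true), ([], 36, true), ([], 37, true), ([], 38, true), ([], 39, true), ([], 40, true), ([], 41, true), ([], 42, true), ([], 43, true), ([],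 44, true), ([], 52, true), ([], 53, true), ([], 54, true), ([], 55, true), ([], 56, true), ([], 57, true), ([], 58, true), ([], 60, true), ([], 61, true), ([], 62, true), ([], 63, true), ([], 64, true), ([], 65, true), ([], 66, true), ([], 68, true)]) (by decide +kernel)

def WD : List (List ℕ) := [[4, 12], [20, 22, 24, 20, 4, 12, 20, 24, 22, 20], [18, 24, 8, 20, 4, 12, 20, 8, 24, 18], [22, 14, 24, 14, 22], [16], [16, 6], [24, 20, 22, 24, 22, 18, 24, 22, 18, 24, 0, 24, 18, 22, 24, 18, 22, 24, 22, 20, 24]]

theorem presW : Pres 7 7 HeG.RL (wv 13 HLh.fP WD) :=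
  Pres.of_subList (WD := WD) HLh.hiv (consAll_sound HLh.hiv HLh.xrel
    (H := [([], 0, true), ([20, 24, 22, 20], 0, true), ([20, 8, 24, 18], 0, true), ([], 32, false), ([], 32, false), ([], 5, true), ([], 32, false), ([], 7, true), ([], 8, true), ([], 9, true), ([], 10, true), ([], 11, true), ([], 12, true), ([], 13, true), ([], 14, true), ([], 15, true), ([], 16, true), ([], 17, true), ([], 18, true), ([], 19, true), ([], 20, true), ([], 21, true), ([], 22, true), ([], 23, true), ([], 24, true), ([], 32, false), ([], 26, true), ([], 27, true), ([], 28, true), ([], 29, true), ([], 30, true), ([], 31, true)]) (by decide +kernel))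

theorem neW : Spor.ev (Spor.atm 7 (wv 13 HLh.fP WD)) [0] ≠ 1 := by
  intro e
  have h := HLh.cert.pres
  have i := HLh.cert.self.index
  generalize HLh.fP = f at *
  have r1 := h.rel [0, 12, 0, 12, 6] (by decide)
  have r2 := h.rel [0, 4, 0, 4] (by decide)
  have r3 := h.rel [24, 4, 24, 6] (by decide)
  have r4 := h.rel [24, 10, 24, 12] (by decide)
  have r5 := h.rel [22, 8, 22, 10] (by decide)
  have r6 := h.rel [20, 8, 20, 8, 20, 8] (by decide)
  simp [wv, WD, Spor.atm_def] at e r1 r2 r3 r4 r5 r6
  have s : ∀ j < 13, f j * f j = 1 := fun j hj => h.sq j hj hj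
  have t : ∀ j < 13, ∀ x, f j * (x * f j) = 1 → x = 1 := fun j hj x q => by
    rwa [mul_eq_one_comm, mul_assoc, s j hj, mul_one] at q
  have e1 : f 6 = f 2 := by rw [← HJ.inv_eq_of_sq (s 2 (by omega)), eq_inv_of_mul_eq_one_right e]
  have e2 : f 3 = 1 := by
    simp only [← mul_assoc] at r1 r2
    rwa [e1, r2, one_mul] at r1
  have e3 : f 2 = 1 := t 12 (by omega) _ (by simpa [e2] using r3)
  have e4 : f 5 = 1 := t 12 (by omega) _ (by simpa [e1, e3] using r4)
  have e5 : f 4 = 1 := t 11 (by omega) _ (by simpa [e4] using r5)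
  have e6 : f 10 = 1 := t 10 (by omega) _ (by simpa [e5] using r6)
  rw [wsub_lift, subgroupOf_eq_top.mpr (gsub_le fun j hj => ?_), index_top] at i
  · omega
  have m : ∀ w ∈ HLh.BW, Spor.ev (Spor.atm 13 f) w ∈ wsub 13 f HLh.BW := fun w => mem_wsub f
  simp [HLh.BW, Spor.atm_def] at m
  interval_cases j <;> simp [HLh.BW, *]

theorem isoP : Nonempty (Spor.He ≃* gsub 13 HLh.fP) := by
  have e0 : gsub 7 HeG.f ≃* Spor.He := (MulEquiv.subgroupCongr HeG.top).trans topEquiv
  have := HeG.simple
  obtain ⟨e, -⟩ := iso_of_simple HeG.bound (by norm_num) HeG.pres presW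
    (by rw [Nat.card_congr e0.toEquiv, HeG.card]) e0.isSimpleGroup neW
  have h := boundHe _ _ HLh.cert.pres
  have : Finite (gsub 13 HLh.fP) := Nat.finite_of_card_ne_zero (ne_zero_of_dvd_ne_zero (by norm_num) h)
  exact ⟨(e0.symm.trans e).trans (MulEquiv.subgroupCongr (eq_of_le_of_card_ge
    (wsub_le_gsub 13 HLh.fP WD) ((Nat.le_of_dvd (by norm_num) h).trans
      (HeG.card.symm.trans (Nat.card_congr (e0.symm.trans e).toEquiv)).le)))⟩

def cM : List ℕ := [435721440417085573312300790306769165, 966538801721230108036052012950030836, 973111488381761979104508538356173455, 444738317977551238577238853718058016, 972844729594116903785669970159175681, 970514067294560871285382600934525428, 112227856102633800279903779676216352, 975716498161955181094936004907239789, 236640030572440983443269518777404448, 776558389757101557860207956327870496, 815625076168915906184715435079993775, 975030420857451585999363860272875944, 944537933659645481889253337604402798]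

noncomputable def fM (j : ℕ) : M24 := Gol.pm (cM.getD j 0)

theorem repM {l : List ℕ} (h : ∀ y ∈ l, y % 2 = 0 ∧ y / 2 < 13) :
    Gol.Rep (l.foldr (fun y a => Gol.comp (cM.getD (y / 2) 0) a) Gol.idc) (ev (atm 13 fM) l) := by
  induction l with
  | nil => exact Gol.rep_one
  | cons y l ih =>
    have h1 := h y (List.mem_cons_self ..)
    rw [ev_cons, atm_def, if_pos h1.2, if_pos h1.1]
    exact (Gol.rep_pm ((by decide +kernel : ∀ j < 13, Gol.inM (cM.getD j 0) = true) _ h1.2)).mul
      (ih fun z hz => h z (List.mem_cons_of_mem _ hz))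

theorem presM : Pres 13 13 HLm.RL fM := by
  have k : ∀ l ∈ (List.range 13).map (fun j => [2 * j, 2 * j]) ++ HLm.RL, ev (atm 13 fM) l = 1 :=
    fun l hl => by
      have := (by decide +kernel : ∀ l ∈ (List.range 13).map (fun j => [2 * j, 2 * j]) ++ HLm.RL,
        (∀ y ∈ l, y % 2 = 0 ∧ y / 2 < 13) ∧
          l.foldr (fun y a => Gol.comp (cM.getD (y / 2) 0) a) Gol.idc = Gol.idc) l hl
      exact (this.2 ▸ repM this.1).eq Gol.rep_one
  exact ⟨fun j hj _ => by
    simpa [atm_two_mul fM hj] using k _ (List.mem_append_left _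
      (List.mem_map_of_mem (List.mem_range.mpr hj))), fun l hl => k l (List.mem_append_right _ hl)⟩

theorem topM : gsub 13 fM = ⊤ := top_le_iff.mp (Gol.M24_gen.ge.trans ((Gol.wordsOk_sound (gens := cM)
  (W := [[12, 11, 4, 12, 10, 11, 9, 12, 9, 11, 12, 10, 9, 12, 11, 0, 12, 11, 10], [11, 12, 9, 10, 12, 11, 10, 12, 11, 10, 4, 12, 11, 10, 12, 4, 9, 11, 0, 12, 10], [10, 12, 11, 12, 9, 11, 9, 4, 12, 10, 11, 0, 12, 10, 11, 0, 12, 0, 10, 4]])
    (by decide +kernel)).trans (Gol.gsub_le fun c hc => by
      obtain ⟨j, hj, rfl⟩ := List.getElem_of_mem hc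
      rw [← List.getD_eq_getElem _ 0 hj]
      exact mem_gsub fM hj)))

theorem iso_top {G : Type*} [Group G] [Finite G] {RL RL' : List (List ℕ)} {M : ℕ}
    (b : Bound 13 13 RL M) {Δ X : Type} [Group Δ] [Group X] [IsSimpleGroup X] {g : ℕ → Δ}
    (hg : Pres 13 13 RL g) (e : X ≃* gsub 13 g) (hc : Nat.card X = M) (hM : M ≠ 0) {gs : List G}
    (h : HJ.Sat RL' gs) (hl : gs.length = 13) (h1 : ∀ j < 13, [2 * j, 2 * j] ∈ RL')
    (h2 : ∀ l ∈ RL, l ∈ RL') (h3 : gs.getD 3 1 ≠ 1) (h4 : ∀ x, x ∈ HJ.clo gs) : Nonempty (G ≃* X) := by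
  let φ : G →* Shrink.{0} G := (Shrink.mulEquiv.symm : G ≃* Shrink.{0} G)
  have hφ : Function.Injective φ := (Shrink.mulEquiv.symm : G ≃* Shrink.{0} G).injective
  have h5 := HJ.pres_br h h1 h2
  have h6 := HJ.gsub_br gs
  rw [hl] at h5 h6
  obtain ⟨e', -⟩ := iso_of_simple b hM hg (h5.map φ)
    (by rw [← Nat.card_congr e.toEquiv, hc]) e.symm.isSimpleGroup (w := [6])
    (by simpa [Spor.atm_def, map_eq_one_iff φ hφ] using h3)
  exact ⟨(e.trans (e'.trans ((MulEquiv.subgroupCongr (gsub_map φ 13 _).symm).trans
    ((equivMapOfInjective _ φ hφ).symm.trans ((MulEquiv.subgroupCongr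
      (h6.trans ((eq_top_iff' _).mpr h4))).trans topEquiv))))).symm⟩

theorem iso_M24 {G : Type*} [Group G] [Finite G] {RL : List (List ℕ)} {gs : List G}
    (h : HJ.Sat RL gs) (hl : gs.length = 13) (h1 : ∀ j < 13, [2 * j, 2 * j] ∈ RL)
    (h2 : ∀ l ∈ HLm.RL, l ∈ RL) (h3 : gs.getD 3 1 ≠ 1) (h4 : ∀ x, x ∈ HJ.clo gs) :
    Nonempty (G ≃* M24) :=
  have := Gol.simple_M24
  iso_top boundM presM ((MulEquiv.subgroupCongr topM).trans topEquiv).symm Gol.card_M24 (by norm_num)
    h hl h1 h2 h3 h4

theorem iso_He {G : Type*} [Group G] [Finite G] {RL : List (List ℕ)} {gs : List G}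
    (h : HJ.Sat RL gs) (hl : gs.length = 13) (h1 : ∀ j < 13, [2 * j, 2 * j] ∈ RL)
    (h2 : ∀ l ∈ HLh.RL, l ∈ RL) (h3 : gs.getD 3 1 ≠ 1) (h4 : ∀ x, x ∈ HJ.clo gs) : Spor.IsoHe G :=
  have := HeG.simple
  isoP.elim fun e => iso_top boundHe HLh.cert.pres e HeG.card (by norm_num) h hl h1 h2 h3 h4

end Cfsg.Agent.HL
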