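/-
The model `SL₅(2)`.
-/
import Cfsg.Agent.HL.CaseI
import Cfsg.Agent.Cov.L52
import Cfsg.Agent.Class.Lin

set_option autoImplicit false
set_option maxRecDepth 100000
set_option synthInstance.maxSize 4000

namespace Cfsg.Agent.HL

open HJ Subgroup PLoc Cov Matrix MulAction

/-- vectors as numbers -/
def enc : (Fin 5 → ZMod 2) ≃ Fin 32 := finFunctionFinEquiv (m := 2) (n := 5)

/-- the action on vectors -/
noncomputable def φL : L52 →* Γ :=
  (enc.permCongrHom.trans PC.equiv).toMonoidHom.comp (toPermHom L52 (Fin 5 → ZMod 2))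

theorem ap_φL (x : L52) (v : Fin 5 → ZMod 2) : (φL x).ap (enc v) = enc (x • v) := by
  show PC.ap (PC.ofPerm _) _ = _
  rw [PC.ap_ofPerm _ (enc v).2, pv_coe]
  simp

theorem inj_φL : Function.Injective φL := (injective_iff_map_eq_one _).mpr fun x q => by
  have k : ∀ v : Fin 5 → ZMod 2, x • v = v := fun v =>
    enc.injective (Fin.ext (by rw [← ap_φL, q, PC.ap_one (enc v).2]))
  ext i j
  simpa [Matrix.SpecialLinearGroup.smul_def, Matrix.one_apply, Pi.single_apply] using
    congrFun (k (Pi.single j 1)) i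

/-- transvections -/
def tv (i j : Fin 5) (q : i ≠ j := by decide) : L52 :=
  ⟨transvection i j 1, det_transvection_of_ne i j q 1⟩

/-- transpositions -/
def sw (i j : Fin 5) (q : i ≠ j := by decide) : L52 := tv i j q * tv j i q.symm * tv i j q

abbrev gM : List L52 := [tv 0 2, tv 0 3, tv 0 4, tv 0 1, tv 2 3, tv 2 4, tv 2 1, tv 3 4, tv 3 1,
  tv 4 1, sw 2 3, sw 3 4, sw 4 1, sw 0 2]

theorem map_gM : gM.map φL = gL := by decide +kernel

theorem card_φL (gs : List L52) : Nat.card (clo gs) = Nat.card (clo (gs.map φL)) := by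
  rw [← clo_map, card_map_of_injective inj_φL]

theorem satM : Sat cL.RL gM := fun l hl => inj_φL (by rw [ev_map, map_gM, satL l hl, map_one])

theorem cardPM : 322560 ≤ Nat.card (clo (gM.take 13)) := by
  rw [card_φL, List.map_take, map_gM]
  refine le_trans ?_ (card_ge (C := clo gH) (clo_sub (by simp)) (fun t => t * z0 * t⁻¹)
    (fun t c hc => by rw [cj_mul', cj_of_comm (zH c hc)]) (T := W15.map (ev (atm gP)))
    (list_mem rfl) (nd_cls k15_eq (by decide +kernel)))
  exact Nat.mul_le_mul (show 15 ≤ _ by simp [W15]) chH_card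

theorem cardSL : Nat.card L52 = 9999360 := by
  have := Class.card_SL (F := ZMod 2) 5 (by norm_num)
  rw [ZMod.card, Fin.prod_univ_five] at this
  exact (one_mul _).symm.trans this

theorem stabM : clo (gM.take 13) ≤ stabilizer L52 (Pi.single 0 1 : Fin 5 → ZMod 2) :=
  clo_le fun x hx => enc.injective (Fin.ext (by
    rw [← ap_φL]
    exact (by decide +kernel : ∀ x ∈ gL.take 13, x.ap (enc (Pi.single 0 1)) = enc (Pi.single 0 1)) _
      (by rw [← map_gM, ← List.map_take]; exact List.mem_map_of_mem hx)))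

theorem hF (t : L52) : ∀ c ∈ stabilizer L52 (Pi.single 0 1 : Fin 5 → ZMod 2),
    (φL (t * c)).ap 1 = (φL t).ap 1 := fun c hc => by
  have := ap_φL c (Pi.single 0 1)
  rw [hc, show (enc (Pi.single 0 1) : ℕ) = 1 by decide +kernel] at this
  rw [map_mul, PC.ap_mul _ _ (by norm_num), this]

theorem nd31 : ((W31.map (ev (atm gM))).map fun t => (φL t).ap 1).Nodup := by
  simp only [List.map_map, Function.comp_def, ev_map, map_gM]
  decide +kernel

theorem topM' (x : L52) : x ∈ clo gM := by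
  rw [eq_top_of_le_card (clo gM) (cardSL.le.trans (le_trans (Nat.mul_le_mul (show 31 ≤ _ by simp [W31]) cardPM)
    (card_ge (T := W31.map (ev (atm gM))) (clo_sub fun _ => List.mem_of_mem_take) _
      (fun t c hc => hF t c (stabM hc)) (list_mem rfl) nd31)))]
  trivial

theorem stabM' : stabilizer L52 (Pi.single 0 1 : Fin 5 → ZMod 2) = clo (gM.take 13) :=
  le_antisymm (fun x => stab_of_count (T := W31.map (ev (atm gM))) (c := 322560) 
    (by simpa [W31] using leL satM)
    (le_inf (clo_sub fun _ => List.mem_of_mem_take) stabM) cardPM _ hF (list_mem rfl) nd31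
    (by simp [W31]) x (topM' x)) stabM

theorem HM : HT (tv 0 2) (tv 0 3) (tv 0 4) (tv 0 1) (tv 2 3) (tv 2 4) (tv 2 1) (tv 3 4) (tv 3 1)
    (tv 4 1) (sw 2 3) (sw 3 4) := by
  have k : 21504 ≤ Nat.card (clo (gM.take 12)) := by
    rw [card_φL, List.map_take, map_gM]; exact chH_card
  refine ⟨satM.ren (List.range 12) (by decide +kernel), fun x => ?_, k⟩
  rw [← mem_centralizer_singleton_iff, ← eq_of_le_of_card_ge (H := clo (gM.take 12)) (clo_le fun x hx =>
    mem_centralizer_singleton_iff.mpr (inj_φL (by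
      rw [map_mul, map_mul, show φL (tv 0 1) = z0 by decide +kernel]
      exact zH _ (mem_clo (List.mem_of_mem_take (i := 12) (by
        rw [← show gL.take 12 = gH.take 12 from rfl, ← map_gM, ← List.map_take]
        exact List.mem_map_of_mem hx)))))) ((card_cent rfl).le.trans k)]
  rfl

variable {G : Type*} [Group G] {a b c z e f h i j k s r : G}

theorem HT.of_equiv (H : HT a b c z e f h i j k s r) {G' : Type*} [Group G'] {z' : G'}
    (φ : centralizer ({z} : Set G) ≃* centralizer ({z'} : Set G')) (z1 : z' ≠ 1) :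
    ∃ a b c e f h i j k s r, HT a b c z' e f h i j k s r := by
  gens
  have m : ∀ {x0 x}, (x0, x) ∈ gr gH [a, b, c, z, e, f, h, i, j, k, s, r] →
    x ∈ centralizer ({z} : Set G) := fun m => mem_centralizer_singleton_iff.mpr (H.cz m)
  let ψ := (centralizer ({z'} : Set G')).subtype.comp φ.toMonoidHom
  have iψ : Function.Injective ψ := Subtype.val_injective.comp φ.injective
  let L : List (centralizer ({z} : Set G)) := [⟨a, m ma⟩, ⟨b, m mb⟩, ⟨c, m mc⟩, ⟨z, m mz⟩, ⟨e, m me⟩,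
    ⟨f, m mf⟩, ⟨h, m mh⟩, ⟨i, m mi⟩, ⟨j, m mj⟩, ⟨k, m mk⟩, ⟨s, m ms⟩, ⟨r, m mr⟩]
  have e1 : (clo L).map (Subgroup.subtype _) = clo [a, b, c, z, e, f, h, i, j, k, s, r] := clo_map _ L
  have e2 : clo L = ⊤ := (eq_top_iff' _).mpr fun x => by
    obtain ⟨y, h1, h2⟩ := e1.ge ((H.eq x).mpr (mem_centralizer_singleton_iff.mp x.2))
    exact (Subtype.ext h2 : y = x) ▸ h1
  obtain ⟨w, hw⟩ := φ.surjective ⟨z', mem_centralizer_singleton_iff.mpr rfl⟩
  have c1 : ∀ y : centralizer ({z} : Set G), (w : G) * y = y * w := fun y =>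
    congrArg Subtype.val (φ.injective (show φ (w * y) = φ (y * w) by
      rw [map_mul, map_mul, hw]; exact Subtype.ext (mem_centralizer_singleton_iff.mp (φ y).2).symm))
  obtain ⟨w0, m0, m1⟩ := H.liftS (c1 ⟨z, m mz⟩) (c1 ⟨_, m (pm_mul mc mh)⟩)
  have e3 : ψ ⟨z, m mz⟩ = z' := by
    rcases H.zT (mem_of_gr H.fn grT m1 (S_le m0)).1 (fun y hy => c1 ⟨y, mem_centralizer_singleton_iff.mpr
      ((H.eq y).mp (clo_sub (by simp) hy))⟩) with t | t
    · rw [show w = 1 from Subtype.ext t, map_one] at hw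
      exact absurd (congrArg Subtype.val hw).symm z1
    · exact (congrArg ψ (Subtype.ext t.symm)).trans (congrArg Subtype.val hw)
  have e4 : (clo L).map ψ = clo (L.map ψ) := clo_map _ L
  refine ⟨_, _, _, _, _, _, _, _, _, _, _, e3 ▸ (⟨fun l hl => (ev_map ψ L l).symm.trans (by
      rw [show ev (atm L) l = 1 from Subtype.ext ((ev_map (Subgroup.subtype _) L l).trans (H.sat l hl)),
        map_one]), fun x => ?_, ?_⟩ : HT (ψ ⟨a, m ma⟩) (ψ ⟨b, m mb⟩) (ψ ⟨c, m mc⟩) (ψ ⟨z, m mz⟩)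
    (ψ ⟨e, m me⟩) (ψ ⟨f, m mf⟩) (ψ ⟨h, m mh⟩) (ψ ⟨i, m mi⟩) (ψ ⟨j, m mj⟩) (ψ ⟨k, m mk⟩) (ψ ⟨s, m ms⟩)
    (ψ ⟨r, m mr⟩))⟩
  · refine (e4 ▸ Iff.rfl : _ ↔ x ∈ (clo L).map ψ).trans ?_
    rw [e2, e3, ← mem_centralizer_singleton_iff]
    exact ⟨fun ⟨y, _, q⟩ => q ▸ (φ y).2, fun q => ⟨φ.symm ⟨x, q⟩, trivial, by simp [ψ]⟩⟩
  · refine H.card.trans (le_of_eq ?_)
    rw [← e1, card_map_of_injective (subtype_injective _), ← card_map_of_injective iψ, e4]
    rfl

variable [Finite G] (H : HT a b c z e f h i j k s r) {g : G}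
include H

theorem HT.iso {xs : List L52} {ys : List G} {RL : List (List ℕ)} {N : ℕ}
    (le : ∀ {gs : List (L52 × G)}, Sat RL gs → gs.length = 13 + xs.length → Le (clo gs) N)
    (h1 : Sat RL (gM.take 13 ++ xs)) (h2 : Sat RL ([a, b, c, z, e, f, h, i, j, k, s, r, g] ++ ys))
    (hl : xs.length = ys.length) (hN : N ≤ Nat.card (clo (gM.take 13 ++ xs)))
    (top : ∀ x, x ∈ clo ([a, b, c, z, e, f, h, i, j, k, s, r, g] ++ ys)) :
    Nonempty (G ≃* clo (gM.take 13 ++ xs)) := by
  have l : (gM.take 13 ++ xs).length = ([a, b, c, z, e, f, h, i, j, k, s, r, g] ++ ys).length := by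
    simp [hl]
  have hf := fn_of_le (le (h1.zip h2 l) (by simp [hl]; omega)) hN l
  have m : ∀ p ∈ (gM.take 13).zip [a, b, c, z, e, f, h, i, j, k, s, r, g],
      p ∈ gr (gM.take 13 ++ xs) ([a, b, c, z, e, f, h, i, j, k, s, r, g] ++ ys) := fun p hp =>
    mem_clo (by rw [List.zip_append (by rfl)]; exact List.mem_append_left _ hp)
  have m1 := m (tv 0 1, z) (by simp)
  have m2 := m (tv 0 4, c) (by simp)
  have m3 := m (tv 4 1, k) (by simp)
  have m4 := m (sw 4 1, g) (by simp)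
  have hi := inj_of_fpf m1 m2 (by decide) (by decide) (fun x m5 q => by
    obtain ⟨y, -, m6⟩ := gr_right [a, b, c, z, e, f, h, i, j, k, s, r] ((HM.eq x).mpr q)
    obtain rfl := hf.eq (gr_le (xs := gM.take 12) (ys := [a, b, c, z, e, f, h, i, j, k, s, r])
      (fun p hp => m p (List.mem_append_left [(sw 4 1, g)] hp)) m6) m5 rfl
    exact inj_of_le (leH (HM.sat.zip H.sat)) H.card rfl x m6) ⟨_, _, m4, inj_φL (by
        simp only [map_mul, map_inv]; decide +kernel)⟩ ⟨_, _, pm_mul m3 m4, inj_φL (by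
        simp only [map_mul, map_inv]; decide +kernel)⟩
  obtain ⟨e, -⟩ := exists_equiv_gr hf hi l
  exact ⟨(e.trans ((MulEquiv.subgroupCongr ((eq_top_iff' _).mpr top)).trans topEquiv)).symm⟩

end Cfsg.Agent.HL
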