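/-
Groups with the involution centraliser of `L₅(2)`: the classification.
-/
import Cfsg.Agent.HL.L5
import Cfsg.Agent.HL.He

set_option autoImplicit false
set_option maxRecDepth 100000
set_option synthInstance.maxSize 4000

namespace Cfsg.Agent.HL

open HJ Subgroup PLoc

variable {G : Type*} [Group G] {a b c z e f h i j k s r : G}

set_option hygiene false in
local notation "ΔH" => gr gH [a, b, c, z, e, f, h, i, j, k, s, r]
set_option hygiene false in
local notation "TT" => clo [a, b, c, z, e, f, h, i, j, k]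
set_option hygiene false in
local notation "AA" => clo [b, c, z, e, f, h]
set_option hygiene false in
local notation "BB" => clo [j, h, z, i, f, c]
set_option hygiene false in
local notation "UU" => clo [a, b, c, z]

theorem fW : ∀ x ∈ clo gJ, x * b0 = b0 * x → x * e0 = e0 * x → x * i0 = i0 * x → x * j0 = j0 * x →
    x.c ∈ kB ∧ (g0 * x * g0⁻¹ = x → y0 * x * y0⁻¹ = x → x = 1 ∨ x = c0 * z0 * f0 * h0) ∧
      x * x = 1 ∧ ∃ l ∈ [[], [0], [2], [4], [6], [0, 2], [0, 4], [0, 6], [2, 4], [2, 6], [4, 6], [0, 2, 4],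
        [0, 2, 6], [0, 4, 6], [2, 4, 6], [0, 2, 4, 6]], x = ev (atm [c0, z0, f0, h0]) l :=
  centJ.2.all (by decide +kernel)

theorem sat_ext {RL : List (List ℕ)} {gs : List G} (ys : List G) (q : Sat RL gs) {n : ℕ}
    (hl : ∀ l ∈ RL, ∀ y ∈ l, y / 2 < n) (hn : gs.length = n := by rfl) : Sat RL (gs ++ ys) :=
  fun l m => by
    rw [← q l m]
    replace hl := hn ▸ hl l m
    clear m
    induction l with
    | nil => rfl
    | cons y l ih =>
      rw [ev_cons, ev_cons, ih fun z hz => hl z (List.mem_cons_of_mem _ hz), atm, atm,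
        List.getD_append _ _ _ _ (hl y (List.mem_cons_self ..))]

variable [Finite G] (H : HT a b c z e f h i j k s r) {g y : G}
include H

theorem HT.tilde (D : Til a b c z e f h i j k s g)
    (q : (g * r) ^ 5 = 1 ∨ (g * r) ^ 5 * (e * (f * (z * h))) = 1)
    (D' : Std k j h z i f c e b a r s y ∨ Til k j h z i f c e b a r y) :
    Nonempty (G ≃* M24) ∨ Spor.IsoHe G := by
  obtain ⟨n, n1, n2⟩ := H.word D
  have top := H.caseII (Or.inr D) D' (fun _ => H.leP) (mem_clo (by simp))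
    ((mul_mem_cancel_left (inv_mem n1)).mp (H.leP (comm_of_cj (by
      rw [cj_mul', (D'.elim (·.toG4) (·.toG4)).gz, ← n2]; group))))
  simp only [pow_succ, pow_zero, one_mul, mul_assoc] at q
  refine q.imp (fun q => iso_M24 ((H.satT D).append (RL' := [[24, 22, 24, 22, 24, 22, 24, 22, 24, 22]])
    (by simpa [Sat, atm] using q)) rfl (by decide +kernel) (by decide +kernel) H.z12.2 top)
    fun q => iso_He ((H.satT D).append (RL' := [[24, 22, 24, 22, 24, 22, 24, 22, 24, 22, 8, 10, 6, 12]])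
      (by simpa [Sat, atm] using q)) rfl (by decide +kernel) (by decide +kernel) H.z12.2 top

theorem HT.stdZ (D : Std a b c z e f h i j k s r g) : Std a b c z e f h i j k s r (z * g * z⁻¹) := by
  gens
  have k1 : ∀ {x w}, z * x = x * z → z * w = w * z → g * x * g⁻¹ = w →
      z * g * z⁻¹ * x * (z * g * z⁻¹)⁻¹ = w := fun q1 q2 q => by
    rw [cj_mul', cj_mul', cj_of_comm (Commute.inv_left q1).eq, q, cj_of_comm q2]
  have k2 : ∀ {x}, z * x = x * z → (g * x) ^ 3 = 1 → (z * g * z⁻¹ * x) ^ 3 = 1 := fun q1 q => by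
    rw [← cj_of_comm q1, conj_mul, conj_pow, q, mul_one, mul_inv_cancel]
  exact ⟨⟨by rw [conj_mul, D.g2]; simp, k1 rfl (by hc) D.gz, k1 (by hc) rfl D.gc,
    k1 (by hc) (by hc) D.gf, k1 (by hc) (by hc) D.gh, k1 (by hc) (by hc) D.gi, k1 (by hc) (by hc) D.gj,
    k2 (by hc) D.gk⟩, k1 (by hc) (by hc) D.ga, k1 (by hc) (by hc) D.gb, k1 (by hc) (by hc) D.ge,
    k1 (by hc) (by hc) D.gs, k2 (by hc) D.gr⟩

theorem HT.both (D : Std a b c z e f h i j k s r g) (D' : Std k j h z i f c e b a r s y) :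
    Nonempty (G ≃* Cov.L52) := by
  gens
  have key : ∀ {g}, Std a b c z e f h i j k s r g → y * g * (y * g) = 1 → Nonempty (G ≃* Cov.L52) :=
    fun {g} D q => by
      obtain ⟨-, -, -, e2, f2, h2, i2, j2, k2, -, r2⟩ := H.sq
      have t1 := D'.gk
      have t2 := D'.gr
      simp only [pow_succ, pow_zero, one_mul, mul_assoc] at t1 t2 q
      obtain ⟨φ⟩ := H.iso (xs := [sw 0 2]) (ys := [y]) (fun h1 h2 => leL h1 h2) satM
        (((sat_ext _ (H.satS D) (n := 13) (by decide +kernel)).append (by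
          simp only [Sat, cL.R5, List.forall_mem_cons]
          simp [atm, D'.g2, t1, t2, rel_of D'.g2 D'.ga k2, rel_of D'.g2 D'.gb j2,
            rel_of D'.g2 D'.gc h2, rel_of D'.g2 D'.ge i2, rel_of D'.g2 D'.gf f2,
            rel_of D'.g2 D'.gi e2, rel_of D'.g2 D'.gs r2])).append (by simpa [Sat, cL.R6, atm] using q))
        rfl (cardSL.ge.trans (card_top.ge.trans (card_le_of_le fun x _ => topM' x)))
        (H.caseII (Or.inl D) (Or.inl D') (fun x q => clo_sub (by simp) ((H.eq x).mpr q))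
          (mem_clo (by simp)) (mem_clo (by simp)))
      exact ⟨φ.trans ((MulEquiv.subgroupCongr ((eq_top_iff' _).mpr topM')).trans topEquiv)⟩
  have c1 : ∀ {x x1 x2 x3}, g * x * g⁻¹ = x1 → y * x1 * y⁻¹ = x2 → g * x2 * g⁻¹ = x3 →
      y * x3 * y⁻¹ = x → y * g * (y * g) * x = x * (y * g * (y * g)) := fun q1 q2 q3 q4 =>
    comm_of_cj (by rw [cj_mul', cj_mul', cj_mul' y, q1, q2, q3, q4])
  obtain ⟨w0, m0, m⟩ := H.lift (c1 D.gz D'.gh D.gf D'.gc)
  have t := @H.inj.eq
  obtain ⟨-, f1, f2, l, -, f3⟩ := fW w0 (centJ.1 w0 m0 (t (by gm) (by gm) (c1 D.gf D'.gc D.gz D'.gh)))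
    (t (by gm) (by gm) (c1 D.gb D'.gj D.ge D'.gi)) (t (by gm) (by gm) (c1 D.ge D'.gi D.gb D'.gj))
    (t (by gm) (by gm) (c1 D.gi D'.gb D.gj D'.ge)) (t (by gm) (by gm) (c1 D.gj D'.ge D.gi D'.gb))
  have l1 : gr [c0, z0, f0, h0] [c, z, f, h] ≤ ΔH := clo_sub (by simp)
  have m1 := (mem_of_gr H.fn l1 m (f3 ▸ ev_mem_clo _ l)).2
  have n1 : (g0, g) ∈ normalizer (gr [c0, z0, f0, h0] [c, z, f, h] : Set (Γ × G)) :=
    nrm_w [[2], [0], [6], [4]] (by decide +kernel) (by simp [atm, D.gc, D.gz, D.gf, D.gh])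
  have n2 : (y0, y) ∈ normalizer (gr [c0, z0, f0, h0] [c, z, f, h] : Set (Γ × G)) :=
    nrm_w [[4], [6], [0], [2]] (by decide +kernel) (by simp [atm, D'.gc, D'.gz, D'.gf, D'.gh])
  have w2 := inv_eq_of_sq (H.fn.eq (pm_mul m m) pm_one f2)
  have gi := inv_eq_of_sq D.g2
  have yi := inv_eq_of_sq D'.g2
  have w3 : g * y * (g * y) = y * g * (y * g) := by rw [← w2, mul_inv_rev, mul_inv_rev, gi, yi]
  have gg : ∀ x, g * (g * x) = x := fun x => by rw [← mul_assoc, D.g2, one_mul]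
  have yy : ∀ x, y * (y * x) = x := fun x => by rw [← mul_assoc, D'.g2, one_mul]
  rcases f1 (t (l1 (nj n1 m1)) m (Eq.trans (by group) w3)) (t (l1 (nj n2 m1)) m
    (Eq.trans (by simp only [yi, mul_assoc, yy]) w3)) with u | u
  · exact key D (H.fn.eq m pm_one u)
  · refine key (H.stdZ D) ?_
    have u1 : z * g * z⁻¹ = g * (c * z) := by
      rw [← D.gc, mul_assoc (g * c), inv_mul_cancel, mul_one, D.gc, inv_eq_of_sq H.z12.1, mul_assoc]
    have u2 : y * (g * (c * z)) * (y * (g * (c * z))) = y * g * (y * g) *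
        (g * (y * (c * z) * y⁻¹) * g⁻¹ * (c * z)) := by simp only [gi, yi, mul_assoc, gg, yy]
    rw [u1, u2, H.fn.eq (y' := c * z * f * h) m (by gm) u, ← conj_mul (b := y), D'.gh, D'.gz, ← conj_mul, D.gf,
      D.gh]
    hc

theorem HT.stab (D : Std a b c z e f h i j k s r g) (nh : ¬ IsConj z h) :
    ¬ IsSimpleGroup G ∧ ∃ v : Fin 5 → ZMod 2, v ≠ 0 ∧ Nonempty (G ≃* MulAction.stabilizer Cov.L52 v) := by
  obtain ⟨h1, h2⟩ := H.caseI D nh
  obtain ⟨φ⟩ := H.iso (xs := []) (ys := []) (fun h1 h2 => HL.leP h1 h2)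
    (satM.ren (List.range 13) (by decide +kernel)) (H.satS D) rfl cardPM h1
  exact ⟨h2, Pi.single 0 1, by simp, ⟨φ.trans (MulEquiv.subgroupCongr stabM'.symm)⟩⟩

theorem HT.main {x : G} (h1 : x * z = z * x) (h2 : IsConj z x) (h3 : x ≠ z) :
    (¬ IsSimpleGroup G ∧ ∃ v : Fin 5 → ZMod 2, v ≠ 0 ∧
      Nonempty (G ≃* MulAction.stabilizer Cov.L52 v)) ∨
    Nonempty (G ≃* Cov.L52) ∨ Nonempty (G ≃* M24) ∨ Spor.IsoHe G := by
  by_cases qc : IsConj z c <;> by_cases qh : IsConj z h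
  · obtain ⟨g, D⟩ := H.exists_g qc
    obtain ⟨y, D'⟩ := H.flip.exists_g qh
    rcases D with D | D
    · exact Or.inr (D'.elim (fun D' => Or.inl (H.both D D'))
        fun D' => Or.inr (H.flip.tilde D'.1 D'.2 (Or.inl D)))
    · exact Or.inr (Or.inr (H.tilde D.1 D.2 (D'.imp_right And.left)))
  · obtain ⟨g, D | D⟩ := H.exists_g qc
    · exact Or.inl (H.stab D qh)
    · exact absurd (isConj_iff.mpr ((H.word D.1).imp fun _ q => q.2)) qh
  · obtain ⟨g, D | D⟩ := H.flip.exists_g qh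
    · exact Or.inl (H.flip.stab D qc)
    · exact absurd (isConj_iff.mpr ((H.flip.word D.1).imp fun _ q => q.2)) qc
  · rcases H.zt h1 h2 with t | ⟨n, -, rfl⟩ | t
    exacts [absurd t h3, absurd (h2.trans (isConj_cj _ _).symm) qc, absurd t qh]

theorem HT.simple [IsSimpleGroup G] :
    Nonempty (G ≃* Cov.L52) ∨ Nonempty (G ≃* M24) ∨ Spor.IsoHe G := by
  gens
  by_cases hc : ∃ x, x * z = z * x ∧ IsConj z x ∧ x ≠ z
  · obtain ⟨x, h1, h2, h3⟩ := hc
    exact (H.main h1 h2 h3).resolve_left fun t => t.1 inferInstance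
  obtain ⟨S, hS⟩ := H.sylT.exists_sylow_top
  have oz : orderOf z = 2 := orderOf_eq_prime (by rw [pow_two, H.z12.1]) H.z12.2
  obtain ⟨N, h1, h2, h3⟩ := S0215.result S z oz (show z ∈ (S : Subgroup G) from hS ▸ mem_clo (by simp))
    fun g hg => by
      by_contra ne
      exact hc ⟨_, (H.eq _).mp (clo_sub (by simp) (hS ▸ hg : _ ∈ TT)), isConj_cj g z, ne⟩
  rcases h1.eq_bot_or_eq_top with rfl | rfl
  · have : (zpowers z).Normal := ⟨fun x hx g => by
      obtain ⟨n, rfl⟩ := mem_zpowers_iff.mp hx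
      have : Commute z g := by
        have := mem_bot.mp (h3 g)
        rwa [mul_inv_eq_one, mul_inv_eq_iff_eq_mul] at this
      rw [← (this.zpow_left n).eq, mul_inv_cancel_right]; exact hx⟩
    rcases this.eq_bot_or_eq_top with t | t
    · exact absurd (by simpa using t) H.z12.2
    · have := card_le_of_le (H := TT) (K := zpowers z) (t ▸ le_top)
      rw [H.cardT, Nat.card_zpowers, oz] at this
      omega
  · have := orderOf_dvd_natCard z
    rw [oz, ← card_top] at this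
    exact absurd (even_iff_two_dvd.mpr this) (Nat.not_even_iff_odd.mpr h2)

omit H in
theorem exists_HT {s' : Cov.L52} (hs : (s' : Matrix (Fin 5) (Fin 5) (ZMod 2)) = Matrix.transvection 0 1 1)
    (hz : orderOf z = 2) (φ : centralizer ({z} : Set G) ≃* centralizer ({s'} : Set Cov.L52)) :
    ∃ a b c e f h i j k s r, HT a b c z e f h i j k s r := by
  obtain rfl : s' = tv 0 1 := Subtype.ext hs
  exact HM.of_equiv φ.symm (sq_of_order hz).2

end Cfsg.Agent.HL
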